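import Cfsg.Agent.Lib.OrthField.Chi
import Cfsg.Agent.Lib.Orth52.Classify

/-!
The plus and minus models, their inner-diagonal groups, and their rational structures.
-/

set_option autoImplicit false

namespace Cfsg.Agent.Lib.OrthField

open Module QuadraticMap Cfsg.Agent.Lib.Forms Cfsg.Agent.Lib.OrthStd Cfsg.Agent.Lib.OrthOmega
open Cfsg.Agent.Lib.AutPOmega (Semisim properPlus properMinus)
open scoped Matrix

variable {F : Type*} [Field F]

/-- Anisotropy of `z₁² + a z₁ z₂ + b z₂²`. -/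
abbrev Aniso (a b : F) : Prop :=
  ∀ z₁ z₂ : F, z₁ ^ 2 + a * z₁ * z₂ + b * z₂ ^ 2 = 0 → z₁ = 0 ∧ z₂ = 0

/-- The plus form. -/
noncomputable abbrev DPlus {m : ℕ} (hm : 4 ≤ m) : OF (Cfsg.quadFormPlus m F) where
  Q := qPlus m
  hf := quadFormPlus_eq m
  nd := qPlus_nondeg m
  h7 := by simp; omega

/-- The minus form. -/
noncomputable abbrev DMinus [Finite F] {n : ℕ} (hn : 3 ≤ n) {a b : F} (hab : Aniso a b) :
    OF (Cfsg.quadFormMinus n F a b) where
  Q := qMinusC n a b
  hf := quadFormMinus_eq n a b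
  nd := AutPOmega.qMinusC_nondeg n hab
  h7 := by simp; omega

theorem hkPlus (m : ℕ) : Fintype.card (Fin m ⊕ Fin m) = 2 * m := by simp; omega

theorem hkMinus (n : ℕ) : Fintype.card ((Fin n ⊕ Fin n) ⊕ Fin 2) = 2 * (n + 1) := by simp; omega

namespace OF

variable [Finite F] {ι : Type} [Fintype ι] [DecidableEq ι] {f : (ι → F) → F} (D : OF f)

theorem ofGSHom_scal (z : Fˣ) : D.ofGSHom (D.scal z) = Semisim.scalar z :=
  Semisim.ext' (AddEquiv.ext fun v => D.coe_scal_mulVec z v) rfl (by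
    show (D.mult (D.scal z) : F) = _
    rw [D.mult_scal]; rfl)

theorem ofGSHom_iso (o : orth D.Q) : D.ofGSHom (D.iso o) = Semisim.orthHom o :=
  Semisim.ext' (AddEquiv.ext fun v => D.iso_apply o v) rfl (by
    show (D.mult (D.iso o) : F) = _
    rw [D.mult_iso]; rfl)

theorem ofGSHom_mem (g : GS f) : D.ofGSHom g ∈ Semisim.similitudes D.Q := rfl

end OF

variable [Finite F]

theorem inndiagPlus_eq {m : ℕ} (hm : 4 ≤ m) :
    Cfsg.inndiagPOmegaPlus m F = ((DPlus (F := F) hm).rot (hkPlus m)).map (DPlus hm).conjQ := by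
  set D := DPlus (F := F) hm
  rw [AutPOmega.inndiagPOmegaPlus_eq m D.h5']
  refine (D.map_conjQ_eq (K := properPlus _ _ _) inf_le_left).trans ?_
  congr 1
  ext g
  show (D.ofGSHom g ∈ Semisim.similitudes _ ∧ _ = (1 : Multiplicative (ZMod 2))) ↔
    D.chi (hkPlus m) g = 1
  refine Iff.trans (and_iff_right (D.ofGSHom_mem g)) ?_
  by_cases h2 : (2 : F) = 0
  · obtain ⟨z, o, rfl⟩ := D.exists_decomp_two h2 g
    rw [D.chi_scal_iso_two (hkPlus m) h2, map_mul, D.ofGSHom_scal, D.ofGSHom_iso, map_mul,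
      AutPOmega.famHom_scalar, one_mul, AutPOmega.famHom_orth _ _ _ D.hne4]
  · rw [D.chi_odd (hkPlus m) h2,
      AutPOmega.famHom_det _ _ _ h2 (QuadraticMap.IsometryEquiv.refl _) (D.ofGSHom_mem g),
      show (D.ofGSHom g).mat = g.1 from D.mat_ofGS g]
    rfl

theorem inndiagMinus_eq {n : ℕ} (hn : 3 ≤ n) {a b : F} (hab : Aniso a b) :
    Cfsg.inndiagPOmegaMinus n F a b =
      ((DMinus hn hab).rot (hkMinus n)).map (DMinus hn hab).conjQ := by
  set D := DMinus hn hab
  rw [AutPOmega.inndiagPOmegaMinus_eq hn hab D.h5']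
  refine (D.map_conjQ_eq (K := properMinus hab hn) (AutPOmega.properMinus_le hab hn)).trans ?_
  congr 1
  ext g
  show D.ofGSHom g ∈ properMinus hab hn ↔ D.chi (hkMinus n) g = 1
  unfold properMinus
  by_cases h2 : (2 : F) = 0
  · rw [if_pos h2]
    constructor
    · intro h
      have hle : (Semisim.scalar (Q := qMinusC n a b)).range ⊔
          ((dicksonHom (AutPOmega.qMinusC_nondeg n hab) (AutPOmega.ne01_or F hn)).ker).map
            Semisim.orthHom ≤ (D.rot (hkMinus n)).map D.ofGSHom := by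
        refine sup_le ?_ ?_
        · rintro _ ⟨z, rfl⟩
          exact ⟨_, D.scal_mem_rot _ z, D.ofGSHom_scal z⟩
        · rintro _ ⟨o, ho, rfl⟩
          exact ⟨_, (D.iso_mem_rot (hkMinus n)).2 (ofAdd_eq_one.1 ho), D.ofGSHom_iso o⟩
      obtain ⟨g', hg', he⟩ := hle h
      have : g' = g := D.ext_mulVec fun v => congrArg (fun S : Semisim D.Q => S.toAdd v) he
      rw [← this]; exact hg'
    · intro h
      obtain ⟨z, o, rfl, ho⟩ := D.decomp_rot_two (hkMinus n) h2 h
      rw [map_mul, D.ofGSHom_scal, D.ofGSHom_iso]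
      exact Subgroup.mul_mem_sup ⟨z, rfl⟩ ⟨o, ofAdd_eq_one.2 ho, rfl⟩
  · rw [if_neg h2, D.chi_odd (hkMinus n) h2]
    show (D.ofGSHom g ∈ _ ∧ _) ↔ _
    rw [and_iff_right (D.ofGSHom_mem g)]
    erw [D.mat_ofGS g]
    rfl

/-! ### Classification in even dimension -/

/-- Anisotropic binary forms over a finite field are equivalent. -/
theorem exists_bin_equiv.{u} {F : Type u} [Field F] [Finite F] {a b a' b' : F} (h : Aniso a b)
    (h' : Aniso a' b') : ∃ e : (Fin 2 → F) ≃ₗ[F] (Fin 2 → F), ∀ z, qBin a' b' (e z) = qBin a b z := by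
  obtain ⟨K, iK, iA, hK⟩ := AutPOmega.exists_quadratic_extension F
  obtain ⟨r₁, hr₁⟩ := AutPOmega.exists_root (K := K) a b hK h
  obtain ⟨r₂, hr₂⟩ := AutPOmega.exists_root (K := K) a' b' hK h'
  have : Module.Finite F K := Module.finite_of_finrank_pos (by omega)
  have hout : ∀ t : F, r₂ ≠ algebraMap F K t := fun t e => by
    rw [e, ← map_pow, ← map_mul, ← map_add, ← map_add, map_eq_zero] at hr₂
    exact one_ne_zero (h' t 1 (by linear_combination hr₂)).2
  have hli : LinearIndependent F ![(1 : K), r₂] := by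
    rw [LinearIndependent.pair_iff]
    intro s t hst
    have ht : t = 0 := by
      by_contra ht
      apply hout (-(s / t))
      rw [Algebra.smul_def, Algebra.smul_def, mul_one] at hst
      rw [map_neg, map_div₀, eq_neg_iff_add_eq_zero]
      have := (map_ne_zero (algebraMap F K)).2 ht
      field_simp
      linear_combination hst
    subst ht
    simpa using hst
  let B := basisOfLinearIndependentOfCardEqFinrank hli (by simp [hK])
  obtain ⟨x, y, hxy⟩ : ∃ x y : F, r₁ = algebraMap F K x + algebraMap F K y * r₂ := by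
    refine ⟨B.repr r₁ 0, B.repr r₁ 1, ?_⟩
    conv_lhs => rw [← B.sum_repr r₁]
    simp [B, Fin.sum_univ_two, Algebra.smul_def]
  have hy : y ≠ 0 := by
    rintro rfl
    rw [hxy, map_zero, zero_mul, add_zero, ← map_pow, ← map_mul, ← map_add, ← map_add,
      map_eq_zero] at hr₁
    exact one_ne_zero (h x 1 (by linear_combination hr₁)).2
  have key : algebraMap F K (x ^ 2 + a * x + b - y ^ 2 * b') +
      algebraMap F K (y * (2 * x + a - y * a')) * r₂ = 0 := by
    rw [hxy] at hr₁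
    simp only [map_sub, map_add, map_mul, map_pow, map_ofNat]
    linear_combination hr₁ - (algebraMap F K y) ^ 2 * hr₂
  have hz := (LinearIndependent.pair_iff.1 hli (x ^ 2 + a * x + b - y ^ 2 * b')
    (y * (2 * x + a - y * a')) (by rw [Algebra.smul_def, Algebra.smul_def, mul_one]; exact key))
  have e1 : 2 * x + a - y * a' = 0 := (mul_eq_zero.1 hz.2).resolve_left hy
  let L : (Fin 2 → F) →ₗ[F] (Fin 2 → F) :=
    { toFun := fun z => ![z 0 - x * z 1, y * z 1]
      map_add' := fun u v => by ext i; fin_cases i <;> simp <;> ring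
      map_smul' := fun t u => by ext i; fin_cases i <;> simp <;> ring }
  have hL : ∀ z, qBin a' b' (L z) = qBin a b z := fun z => by
    simp [L, qBin_apply]
    linear_combination (x * z 1 ^ 2 - z 0 * z 1) * e1 - (z 1 ^ 2) * hz.1
  have hinj : Function.Injective L := by
    rw [injective_iff_map_eq_zero]
    intro z hz'
    have h1 := congrFun hz' 1
    have h0 := congrFun hz' 0
    simp [L, hy] at h1 h0
    rw [h1, mul_zero, sub_zero] at h0
    funext i
    fin_cases i
    · exact h0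
    · exact h1
  exact ⟨LinearEquiv.ofInjectiveEndo L hinj, hL⟩

/-- Non-degenerate forms in dimension `2n + 2` are similar to the plus or to a given minus form. -/
theorem exists_even_model.{u} {F : Type u} [Field F] [Finite F] {ι : Type} [Fintype ι]
    [DecidableEq ι] {n : ℕ} (hk : Fintype.card ι = 2 * (n + 1)) {Q₀ : QuadraticForm F (ι → F)}
    (hQ : Nondeg Q₀) {a₀ b₀ : F} (hab : Aniso a₀ b₀) :
    (∃ e : (Fin (n + 1) ⊕ Fin (n + 1) → F) ≃ₗ[F] (ι → F),
      ∀ v, Q₀ (e v) = 1 * Cfsg.quadFormPlus (n + 1) F v) ∨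
    ∃ e : ((Fin n ⊕ Fin n) ⊕ Fin 2 → F) ≃ₗ[F] (ι → F),
      ∀ v, Q₀ (e v) = 1 * Cfsg.quadFormMinus n F a₀ b₀ v := by
  have hd : finrank F (ι → F) = 2 * (n + 1) := by rw [finrank_fun, hk]
  rcases classify Q₀ hQ with ⟨k, hk', ⟨I⟩⟩ | ⟨k, c, -, -, hk', -⟩ | ⟨k, a, b, hab', hk', ⟨I⟩⟩
  · obtain rfl : k = n + 1 := by omega
    exact Or.inl ⟨I.toLinearEquiv.symm, fun v => by
      rw [Orth52.equiv_apply I, quadFormPlus_eq, one_mul]⟩
  · omega
  · obtain rfl : k = n := by omega
    obtain ⟨s, hs⟩ := exists_bin_equiv hab hab'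
    refine Or.inr ⟨((minusSplit k F).trans
      ((LinearEquiv.refl F _).prodCongr s)).trans I.toLinearEquiv.symm, fun v => ?_⟩
    rw [LinearEquiv.trans_apply, Orth52.equiv_apply I, quadFormMinus_eq, one_mul]
    show ((qPlus (F := F) k).prod (qBin a b)) ((minusSplit k F v).1, s (minusSplit k F v).2) =
      ((qPlus (F := F) k).prod (qBin a₀ b₀)) (minusSplit k F v)
    rw [QuadraticMap.prod_apply, QuadraticMap.prod_apply, hs]

/-- A plus form is not similar to a minus form. -/
theorem plus_ne_minus {n : ℕ} {a b w : F} (hab : Aniso a b)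
    (I : ((Fin n ⊕ Fin n) ⊕ Fin 2 → F) ≃ₗ[F] (Fin (n + 1) ⊕ Fin (n + 1) → F))
    (hI : ∀ u, qPlus (n + 1) (I u) = w * qMinusC n a b u) (hw : w ≠ 0) : False := by
  set U := (MaxSingular.stdX F (n + 1)).comap (I : ((Fin n ⊕ Fin n) ⊕ Fin 2 → F) →ₗ[F] (Fin (n + 1) ⊕ Fin (n + 1) → F))
  have h1 : finrank F U = n + 1 := by
    rw [show U = (MaxSingular.stdX F (n + 1)).map (I.symm : (Fin (n + 1) ⊕ Fin (n + 1) → F) →ₗ[F] ((Fin n ⊕ Fin n) ⊕ Fin 2 → F))
      from Submodule.comap_equiv_eq_map_symm I _, LinearEquiv.finrank_map_eq,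
      MaxSingular.isMax_stdX.1]
  have h2 := AutPOmega.finrank_sing_minus hab (U := U) fun v hv => by
    have := MaxSingular.isMax_stdX.2 (I v) hv
    rw [hI] at this
    exact (mul_eq_zero.1 this).resolve_left hw
  omega

/-! ### Rational structures -/

variable {F₀ : Type*} [Field F₀] {σ : F ≃+* F} {j : F₀ →+* F}

/-- The standard plus structure. -/
noncomputable def plusRat {m : ℕ} (j : F₀ →+* F) :
    Rat (1 : GS (Cfsg.quadFormPlus m F)) σ j (Cfsg.quadFormPlus m F₀) where
  h := LinearEquiv.refl F _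
  w := 1
  hw := one_ne_zero
  fix' u := by simp
  val v := by simp [Cfsg.quadFormPlus, map_sum]

/-- The standard minus structure. -/
noncomputable def minusRat {n : ℕ} (j : F₀ →+* F) (a₀ b₀ : F₀) :
    Rat (1 : GS (Cfsg.quadFormMinus n F (j a₀) (j b₀))) σ j (Cfsg.quadFormMinus n F₀ a₀ b₀) where
  h := LinearEquiv.refl F _
  w := 1
  hw := one_ne_zero
  fix' u := by simp
  val v := by simp [Cfsg.quadFormMinus, map_sum]

section Hyp

variable {n : ℕ}

/-- The coordinates in which a split minus form is hyperbolic. -/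
noncomputable def hypMap {r s : F} (hrs : r ≠ s) :
    ((Fin n ⊕ Fin n) ⊕ Fin 2 → F) ≃ₗ[F] (Fin (n + 1) ⊕ Fin (n + 1) → F) where
  toFun v := Sum.elim (Fin.cases (v (.inr 0) - r * v (.inr 1)) fun i => v (.inl (.inl i)))
    (Fin.cases (v (.inr 0) - s * v (.inr 1)) fun i => v (.inl (.inr i)))
  invFun u := Sum.elim (Sum.elim (fun i => u (.inl i.succ)) fun i => u (.inr i.succ))
    ![(r * u (.inr 0) - s * u (.inl 0)) / (r - s), (u (.inr 0) - u (.inl 0)) / (r - s)]
  map_add' u v := by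
    funext l
    rcases l with i | i <;> refine Fin.cases ?_ ?_ i <;> (try intro i) <;> simp <;> ring
  map_smul' t v := by
    funext l
    rcases l with i | i <;> refine Fin.cases ?_ ?_ i <;> (try intro i) <;> simp <;> ring
  left_inv v := by
    have := sub_ne_zero.2 hrs
    funext l
    rcases l with (i | i) | i
    · simp
    · simp
    · fin_cases i <;> simp <;> field_simp <;> ring
  right_inv u := by
    have := sub_ne_zero.2 hrs
    funext l
    rcases l with i | i <;> refine Fin.cases ?_ ?_ i <;> (try intro i) <;> simp <;> field_simp <;> ring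

theorem hypMap_form {r s a b : F} (hrs : r ≠ s) (ha : a = -(r + s)) (hb : b = r * s)
    (v : (Fin n ⊕ Fin n) ⊕ Fin 2 → F) :
    qPlus (n + 1) (hypMap hrs v) = qMinusC n a b v := by
  rw [qPlus_apply, Fin.sum_univ_succ, ← quadFormMinus_eq, Cfsg.quadFormMinus]
  simp [hypMap, ha, hb]
  ring

/-- The interchange of the first hyperbolic pair. -/
def swap0 (n : ℕ) : Equiv.Perm (Fin (n + 1) ⊕ Fin (n + 1)) := Equiv.swap (.inl 0) (.inr 0)

theorem qPlus_swap0 (v : Fin (n + 1) ⊕ Fin (n + 1) → F) :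
    qPlus (n + 1) (fun i => v (swap0 n i)) = qPlus (n + 1) v := by
  rw [qPlus_apply, qPlus_apply]
  refine Finset.sum_congr rfl fun i _ => ?_
  rcases eq_or_ne i 0 with rfl | hi
  · simp [swap0, mul_comm]
  · simp [swap0, Equiv.swap_apply_of_ne_of_ne, hi]

variable (hm : 4 ≤ n + 1)

/-- The standard graph element. -/
noncomputable def g0 : GS (Cfsg.quadFormPlus (n + 1) F) :=
  (DPlus (F := F) hm).iso ⟨LinearEquiv.funCongrLeft F F (swap0 n), fun v => qPlus_swap0 v⟩

theorem g0_apply (v : Fin (n + 1) ⊕ Fin (n + 1) → F) :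
    ((g0 (F := F) hm).1 : Matrix (Fin (n + 1) ⊕ Fin (n + 1)) (Fin (n + 1) ⊕ Fin (n + 1)) F) *ᵥ v = fun i => v (swap0 n i) :=
  (DPlus (F := F) hm).iso_apply _ v

/-- The minus structure of the graph element. -/
noncomputable def g0Rat (σ : F ≃+* F) (j : F₀ →+* F) {a₀ b₀ : F₀} {r : F} (hr : σ r ≠ r)
    (hσ2 : σ (σ r) = r) (ha : j a₀ = -(r + σ r)) (hb : j b₀ = r * σ r) :
    Rat (g0 (F := F) hm) σ j (Cfsg.quadFormMinus n F₀ a₀ b₀) where
  h := hypMap (Ne.symm hr)
  w := 1
  hw := one_ne_zero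
  fix' u := by
    rw [g0_apply]
    funext l
    rcases l with i | i <;> refine Fin.cases ?_ ?_ i <;> (try intro i) <;>
      simp [swap0, hypMap, Equiv.swap_apply_of_ne_of_ne, hσ2]
  val v := by
    rw [quadFormPlus_eq, hypMap_form (Ne.symm hr) ha hb, ← quadFormMinus_eq, one_mul]
    simp [Cfsg.quadFormMinus, map_sum]

omit [Finite F] in
/-- Existence of an anisotropic binary form over the fixed field, with its root. -/
theorem exists_aniso_root (hσ : orderOf σ = 2) (hj : ∀ x, σ x = x ↔ x ∈ Set.range j) :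
    ∃ (a₀ b₀ : F₀) (r : F), Aniso a₀ b₀ ∧ σ r ≠ r ∧ σ (σ r) = r ∧ j a₀ = -(r + σ r) ∧
      j b₀ = r * σ r := by
  have hσ2 : ∀ y, σ (σ y) = y := fun y => by
    have : σ ^ 2 = 1 := by rw [← hσ]; exact pow_orderOf_eq_one σ
    exact (RingEquiv.congr_fun (pow_two σ).symm y).trans (RingEquiv.congr_fun this y)
  obtain ⟨r, hr⟩ : ∃ r, σ r ≠ r := by
    by_contra h
    push Not at h
    rw [show σ = 1 from RingEquiv.ext h, orderOf_one] at hσ
    omega
  obtain ⟨a₀, ha⟩ := (hj _).1 (show σ (-(r + σ r)) = -(r + σ r) by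
    rw [map_neg, map_add, hσ2, add_comm])
  obtain ⟨b₀, hb⟩ := (hj _).1 (show σ (r * σ r) = r * σ r by rw [map_mul, hσ2, mul_comm])
  refine ⟨a₀, b₀, r, fun z₁ z₂ hz => ?_, hr, hσ2 r, ha, hb⟩
  have h1 : (j z₁ - r * j z₂) * (j z₁ - σ r * j z₂) = 0 := by
    have := congrArg j hz
    simp only [map_add, map_mul, map_pow, map_zero, ha, hb] at this
    linear_combination this
  have hfix : ∀ x : F₀, σ (j x) = j x := fun x => (hj _).2 ⟨x, rfl⟩
  have key : j z₁ - r * j z₂ = 0 ∧ j z₁ - σ r * j z₂ = 0 := by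
    rcases mul_eq_zero.1 h1 with h | h
    · have := congrArg σ h
      rw [map_sub, map_mul, hfix, hfix, map_zero] at this
      exact ⟨h, this⟩
    · have := congrArg σ h
      rw [map_sub, map_mul, hfix, hfix, hσ2, map_zero] at this
      exact ⟨this, h⟩
  have hz2 : j z₂ = 0 := (mul_eq_zero.1 (show (σ r - r) * j z₂ = 0 by
    linear_combination key.1 - key.2)).resolve_left (sub_ne_zero.2 hr)
  refine ⟨j.injective ?_, j.injective (by rw [hz2, map_zero])⟩
  rw [map_zero]
  linear_combination key.1 + r * hz2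

omit [Finite F] in
/-- In odd degree anisotropy persists. -/
theorem aniso_map {e : ℕ} (he : orderOf σ = e) (hodd : Odd e)
    (hj : ∀ x, σ x = x ↔ x ∈ Set.range j) {a₀ b₀ : F₀} (hab : Aniso a₀ b₀) :
    Aniso (j a₀) (j b₀) := by
  intro z₁ z₂ hz
  by_contra hne
  rcases eq_or_ne z₂ 0 with rfl | h2
  · refine hne ⟨?_, rfl⟩
    rw [mul_zero, zero_pow two_ne_zero, mul_zero, add_zero, add_zero] at hz
    exact pow_eq_zero_iff two_ne_zero |>.1 hz
  set r := z₁ / z₂
  have hr : r ^ 2 + j a₀ * r + j b₀ = 0 := by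
    simp only [r]
    field_simp
    linear_combination hz
  have hfix : ∀ x : F₀, σ (j x) = j x := fun x => (hj _).2 ⟨x, rfl⟩
  have hroot : ∀ y, y ^ 2 + j a₀ * y + j b₀ = 0 → y = r ∨ y = -j a₀ - r := by
    intro y hy
    have : (y - r) * (y - (-j a₀ - r)) = 0 := by linear_combination hy - hr
    rcases mul_eq_zero.1 this with h | h
    · exact Or.inl (sub_eq_zero.1 h)
    · exact Or.inr (sub_eq_zero.1 h)
  have hσr : σ r ^ 2 + j a₀ * σ r + j b₀ = 0 := by
    have := congrArg σ hr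
    rwa [map_add, map_add, map_pow, map_mul, hfix, hfix, map_zero] at this
  have hσeq : σ r = r := by
    rcases hroot _ hσr with h | h
    · exact h
    have h2' : σ (σ r) = r := by rw [h, map_sub, map_neg, hfix, h]; ring
    obtain ⟨t, ht⟩ := hodd
    have hev : ∀ i : ℕ, (σ ^ (2 * i)) r = r := by
      intro i
      induction i with
      | zero => simp
      | succ i ih =>
        rw [Nat.mul_succ, pow_add, RingAut.mul_apply, pow_two, RingAut.mul_apply, h2', ih]
    have h3 : (σ ^ (2 * t + 1)) r = r := by rw [← ht, ← he, pow_orderOf_eq_one]; rfl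
    rwa [pow_succ', RingAut.mul_apply, hev] at h3
  obtain ⟨x, hx⟩ := (hj r).1 hσeq
  refine one_ne_zero (hab x 1 (j.injective ?_)).2
  simp only [map_add, map_mul, map_pow, map_one, map_zero, hx]
  linear_combination hr

end Hyp

end Cfsg.Agent.Lib.OrthField
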