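import Cfsg.Agent.Lib.OrthField.EvenModels

/-!
Field and graph-field elements of prime order in the even-dimensional orthogonal groups.
-/

set_option autoImplicit false

namespace Cfsg.Agent.Lib.OrthField

open Module QuadraticMap Cfsg.Agent.Lib.Forms Cfsg.Agent.Lib.OrthStd Cfsg.Agent.Lib.OrthOmega
open Cfsg.Agent.Lib.AutPSL (tnorm tnorm_succ tnorm_zero)
open scoped Matrix

/-- Every finite field has an anisotropic binary form. -/
theorem exists_aniso.{u} (K : Type u) [Field K] [Finite K] : ∃ a b : K, Aniso a b := by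
  classical
  obtain ⟨L, iL, iA, hL⟩ := AutPOmega.exists_quadratic_extension K
  have : Module.Finite K L := Module.finite_of_finrank_pos (by omega)
  have : Finite L := Module.finite_of_finite K
  have := Fintype.ofFinite K
  have := Fintype.ofFinite L
  have hcard : Fintype.card L = Fintype.card K ^ 2 := by
    rw [Module.card_eq_pow_finrank (K := K) (V := L), hL]
  obtain ⟨p, hchar⟩ := CharP.exists L
  obtain ⟨e, hp, he⟩ := FiniteField.card L p
  have : Fact p.Prime := ⟨hp⟩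
  set j := algebraMap K L
  set σ : L ≃+* L := (FiniteField.frobeniusAlgEquivOfAlgebraic K L).toRingEquiv
  have hσ : ∀ x, σ x = x ^ Fintype.card K := fun x =>
    congrFun (FiniteField.coe_frobeniusAlgEquivOfAlgebraic K L) x
  have hσ2 : ∀ x, σ (σ x) = x := fun x => by
    rw [hσ, hσ, ← pow_mul, ← _root_.sq, ← hcard, FiniteField.pow_card]
  have hfix : ∀ x : K, σ (j x) = j x := fun x => by rw [hσ, ← map_pow, FiniteField.pow_card]
  have hj : ∀ x, σ x = x ↔ x ∈ Set.range j := by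
    intro x
    refine ⟨fun h => ?_, fun ⟨y, hy⟩ => hy ▸ hfix y⟩
    refine (IsGalois.mem_range_algebraMap_iff_fixed x).2 fun g => ?_
    obtain ⟨i, rfl⟩ := (FiniteField.bijective_frobeniusAlgEquivOfAlgebraic_pow K L).surjective g
    have key : ∀ i : ℕ, (FiniteField.frobeniusAlgEquivOfAlgebraic K L ^ i) x = x := by
      intro i
      induction i with
      | zero => rfl
      | succ i ih => rw [pow_succ, AlgEquiv.mul_apply, show FiniteField.frobeniusAlgEquivOfAlgebraic K L x = x from h, ih]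
    exact key _
  have hne : σ ≠ 1 := fun h => by
    have hall : Function.Surjective j := fun x => (hj x).1 (by rw [h]; rfl)
    have h1 := Fintype.card_le_of_surjective _ hall
    have h2 := Fintype.one_lt_card (α := K)
    rw [hcard, _root_.sq] at h1
    nlinarith
  have hord : orderOf σ = 2 := by
    refine orderOf_eq_prime ?_ hne
    rw [pow_two]; exact RingEquiv.ext fun x => hσ2 x
  obtain ⟨a, b, r, hab, -⟩ := exists_aniso_root hord hj
  exact ⟨a, b, hab⟩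

/-- Prime-order elements of a coset are conjugate: reduction along an isomorphism. -/
theorem coset_iff {X Y : Type*} [Group X] [Group Y] (e : X ≃* Y) {H : Subgroup X} {H' : Subgroup Y}
    (hH : H.map e.toMonoidHom = H') {x δ : X} (hδ : δ ∈ H) {r : ℕ} (hxr : orderOf x = r)
    (hkey : ∀ d ∈ H', (d * e x) ^ r = 1 → Cfsg.IsConjUnder H' (e x) (d * e x)) :
    orderOf (δ * x) = r ↔ Cfsg.IsConjUnder H x (δ * x) := by
  constructor
  · intro h
    obtain ⟨_, hh, he⟩ := hkey (e δ) (hH ▸ ⟨δ, hδ, rfl⟩)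
      (by rw [← map_mul, ← map_pow, ← h, pow_orderOf_eq_one, map_one])
    subst hH
    obtain ⟨k, hk, rfl⟩ := hh
    refine ⟨k, hk, e.injective ?_⟩
    simpa [map_mul, map_inv] using he
  · rintro ⟨h, -, he⟩
    rw [he, ← MulAut.conj_apply, MulEquiv.orderOf_eq, hxr]

section General

variable {F : Type*} [Field F] [Finite F] {ι : Type} [Fintype ι] [DecidableEq ι]
  {f : (ι → F) → F} (D : OF f) {k : ℕ} (hk : Fintype.card ι = 2 * k)
  {σ : F ≃+* F} (hσ : Fixes f σ)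

theorem chi_eq_of_conjQ {g g' : GS f} (h : D.conjQ g' = D.conjQ g) : D.chi hk g' = D.chi hk g := by
  obtain ⟨z, rfl⟩ := D.conjQ_eq_iff.1 h
  rw [map_mul, D.chi_scal, one_mul]

theorem chi_tnorm (g : GS f) : ∀ i : ℕ, D.chi hk (tnorm (D.mapGS σ hσ) g i) = D.chi hk g ^ i
  | 0 => by rw [tnorm_zero, map_one, pow_zero]
  | i + 1 => by rw [tnorm_succ, map_mul, D.chi_mapGS, chi_tnorm g i, pow_succ']

theorem sigma_pow_eq_one {g : GS f} {r : ℕ} (h : (D.conjQ g * D.fieldQ σ hσ) ^ r = 1) :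
    σ ^ r = 1 := by
  rw [D.conjQ_mul_fieldQ_pow] at h
  exact (D.eq_one_of_conjQ_mul_fieldQ _ h).1

/-- An element outside the rotations can only have even order in the coset. -/
theorem eq_two_of_not_rot {g : GS f} (hg : D.chi hk g ≠ 1) {r : ℕ} (hr : r.Prime)
    (h : (D.conjQ g * D.fieldQ σ hσ) ^ r = 1) : r = 2 := by
  rw [D.conjQ_mul_fieldQ_pow] at h
  obtain ⟨-, z, hz⟩ := D.eq_one_of_conjQ_mul_fieldQ _ h
  have h1 := chi_tnorm D hk hσ g r
  rw [hz, D.chi_scal, (mult_zmod2_cases _).resolve_left hg] at h1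
  rcases hr.eq_two_or_odd' with h2 | ⟨i, rfl⟩
  · exact h2
  · rw [pow_succ, pow_mul, show (Multiplicative.ofAdd (1 : ZMod 2)) ^ 2 = 1 from rfl, one_pow,
      one_mul] at h1
    exact absurd h1 (by decide)

/-- A reflection as an automorphism. -/
theorem exists_refl_gs {v : ι → F} (hv : f v ≠ 0) {R : GL ι F}
    (hR : (R : Matrix ι ι F) = Cfsg.reflectionMatrix f v)
    (hfix : ∀ i, σ (v i) = v i) :
    ∃ g : GS f, g.1 = R ∧ D.chi hk g = Multiplicative.ofAdd 1 ∧ D.mapGS σ hσ g = g := by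
  have hf : f = ⇑D.Q := funext D.hf
  rw [D.hf] at hv
  refine ⟨D.iso (orefl D.Q v), Units.ext (Matrix.ext_of_mulVec_single fun i => ?_),
    by rw [D.chi_iso, dicksonHom_orefl D.nd _ hv], D.ext_mulVec fun x => ?_⟩
  · rw [D.iso_apply, hR]
    show refl D.Q v _ = _
    rw [← reflectionMatrix_mulVec]
    exact congrArg (fun q => Cfsg.reflectionMatrix q v *ᵥ _) hf.symm
  · obtain ⟨u, rfl⟩ := (D.fieldS σ hσ).toAdd.surjective x
    rw [D.fieldS_apply, D.coe_mapGS, OF.map_mulVec_comp, D.iso_apply, D.iso_apply]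
    have h1 := congrArg (fun o : orth D.Q => o.1 ((D.fieldS σ hσ).toAdd u))
      (conjO_orefl (D.fieldS σ hσ) v)
    simp only [AutPOmega.Semisim.conjO_apply, AddEquiv.symm_apply_apply] at h1
    simp only [D.fieldS_apply] at h1
    rw [show (fun i => σ (v i)) = v from funext hfix] at h1
    exact h1

variable {F₀ : Type*} [Field F₀] [Finite F₀] {j : F₀ →+* F} (hj : ∀ a, σ a = a ↔ a ∈ Set.range j)
  {ι₀ : Type} [Fintype ι₀] [DecidableEq ι₀] {f₀ : (ι₀ → F₀) → F₀} (D₀ : OF f₀)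
  (hk₀ : Fintype.card ι₀ = 2 * k) {g g' h₁ : GS f} (hg' : D.conjQ g' = D.conjQ g)
  (X₁ : Rat h₁ σ j f₀) (X₂ : Rat g' σ j f₀)

include hj D₀ hk₀ hg' X₁ X₂

/-- Two elements with the same model: parities and a conjugating rotation. -/
theorem conj_model : D.chi hk g = D.chi hk h₁ ∧ ∃ a ∈ D.rot hk,
    D.conjQ g * D.fieldQ σ hσ =
      D.conjQ a * (D.conjQ h₁ * D.fieldQ σ hσ) * (D.conjQ a)⁻¹ := by
  obtain ⟨hc, a, ha, he⟩ := exists_conj_rot D D₀ X₁ hk hk₀ hσ (fun x => (hj _).2 ⟨x, rfl⟩) X₂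
  rw [chi_eq_of_conjQ D hk hg'] at hc
  rw [hg'] at he
  exact ⟨hc.symm, a, ha, he⟩

theorem conj_model_one (h₁1 : h₁ = 1) : D.chi hk g = 1 ∧ ∃ a ∈ D.rot hk,
    D.conjQ g * D.fieldQ σ hσ =
      D.conjQ a * (D.conjQ 1 * D.fieldQ σ hσ) * (D.conjQ a)⁻¹ := by
  obtain ⟨hc, h⟩ := conj_model D hk hσ hj D₀ hk₀ hg' X₁ X₂
  subst h₁1
  exact ⟨hc.trans (map_one _), h⟩

theorem conj_model_graph (h₁g : D.chi hk h₁ = Multiplicative.ofAdd 1) : D.chi hk g ≠ 1 ∧
    ∃ a ∈ D.rot hk, D.conjQ g * D.fieldQ σ hσ =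
      D.conjQ a * (D.conjQ h₁ * D.fieldQ σ hσ) * (D.conjQ a)⁻¹ := by
  obtain ⟨hc, h⟩ := conj_model D hk hσ hj D₀ hk₀ hg' X₁ X₂
  exact ⟨by rw [hc, h₁g]; decide, h⟩

end General

section Plus

variable {F : Type*} [Field F] [Finite F] {n : ℕ} (hm : 4 ≤ n + 1)

theorem g0_eq : g0 (F := F) hm = (DPlus (F := F) hm).iso
    (orefl (qPlus (F := F) (n + 1)) (Pi.single (Sum.inl 0) 1 - Pi.single (Sum.inr 0) 1)) := by
  refine (DPlus (F := F) hm).ext_mulVec fun x => ?_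
  rw [g0_apply, (DPlus (F := F) hm).iso_apply]
  show _ = refl (qPlus (n + 1)) (Pi.single (Sum.inl 0) 1 - Pi.single (Sum.inr 0) 1) x
  have hQ : qPlus (F := F) (n + 1) (Pi.single (Sum.inl 0) 1 - Pi.single (Sum.inr 0) 1) = -1 := by
    rw [qPlus_apply, Fin.sum_univ_succ]; simp
  have hp : polar (qPlus (F := F) (n + 1)) (Pi.single (Sum.inl 0) 1 - Pi.single (Sum.inr 0) 1) x =
      x (.inr 0) - x (.inl 0) := by
    rw [qPlus_polar, Fin.sum_univ_succ]; simp; ring
  rw [refl_apply, hQ, hp]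
  funext l
  rcases l with i | i <;> refine Fin.cases ?_ ?_ i <;> (try intro i) <;>
    simp [swap0, Equiv.swap_apply_of_ne_of_ne]

theorem chi_g0 : (DPlus (F := F) hm).chi (hkPlus (n + 1)) (g0 hm) = Multiplicative.ofAdd 1 := by
  rw [g0_eq, OF.chi_iso, dicksonHom_orefl]
  rw [show qPlus (F := F) (n + 1) (Pi.single (Sum.inl 0) 1 - Pi.single (Sum.inr 0) 1) = -1 by
    rw [qPlus_apply, Fin.sum_univ_succ]; simp]
  exact neg_ne_zero.2 one_ne_zero

variable {σ : F ≃+* F} {r : ℕ} (hr : orderOf σ = r) (hp : r.Prime)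
  {g : GS (Cfsg.quadFormPlus (n + 1) F)}
  (hg : ((DPlus (F := F) hm).conjQ g * (DPlus (F := F) hm).fieldQ σ (fixes_plus (n + 1) σ)) ^ r = 1)

include hr hp hg

set_option maxHeartbeats 4000000 in
/-- In the plus case the coset has the field element and, for `r = 2`, the graph-field element. -/
theorem plus_conj_cases :
    ((DPlus (F := F) hm).chi (hkPlus (n + 1)) g = 1 ∧ ∃ a ∈ (DPlus (F := F) hm).rot (hkPlus (n + 1)),
      (DPlus (F := F) hm).conjQ g * (DPlus (F := F) hm).fieldQ σ (fixes_plus (n + 1) σ) =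
        (DPlus (F := F) hm).conjQ a *
          ((DPlus (F := F) hm).conjQ 1 * (DPlus (F := F) hm).fieldQ σ (fixes_plus (n + 1) σ)) *
          ((DPlus (F := F) hm).conjQ a)⁻¹) ∨
    ((DPlus (F := F) hm).chi (hkPlus (n + 1)) g ≠ 1 ∧ r = 2 ∧
      ∃ a ∈ (DPlus (F := F) hm).rot (hkPlus (n + 1)),
      (DPlus (F := F) hm).conjQ g * (DPlus (F := F) hm).fieldQ σ (fixes_plus (n + 1) σ) =
        (DPlus (F := F) hm).conjQ a *
          ((DPlus (F := F) hm).conjQ (g0 hm) *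
            (DPlus (F := F) hm).fieldQ σ (fixes_plus (n + 1) σ)) *
          ((DPlus (F := F) hm).conjQ a)⁻¹) := by
  have hj : ∀ a, σ a = a ↔ a ∈ Set.range (AutPSL.fixField σ).subtype := fun a =>
    ⟨fun h => ⟨⟨a, h⟩, rfl⟩, fun ⟨y, hy⟩ => hy ▸ y.2⟩
  obtain ⟨g', Q₀, hg', hQ₀, ⟨X⟩⟩ :=
    exists_rat (DPlus (F := F) hm) (fixes_plus (n + 1) σ) hr hp.pos hj hg
  have hj' : ∀ a, σ ((AutPSL.fixField σ).subtype a) = (AutPSL.fixField σ).subtype a :=
    fun a => (hj _).2 ⟨a, rfl⟩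
  obtain ⟨a₁, b₁, hab₁⟩ := exists_aniso (AutPSL.fixField σ)
  rcases exists_even_model (hkPlus (n + 1)) hQ₀ hab₁ with ⟨e, he⟩ | ⟨e, he⟩
  · exact Or.inl (conj_model_one (DPlus (F := F) hm) (hkPlus (n + 1)) (fixes_plus (n + 1) σ) hj
      (DPlus (F := AutPSL.fixField σ) hm) (hkPlus (n + 1)) hg' (plusRat _)
      (X.change hj' _ e 1 one_ne_zero he) rfl)
  · rcases hp.eq_two_or_odd' with h2 | hodd
    · subst h2
      obtain ⟨a₀, b₀, rr, hab₀, h1, h2, h3, h4⟩ := exists_aniso_root hr hj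
      rcases exists_even_model (hkPlus (n + 1)) hQ₀ hab₀ with ⟨e', he'⟩ | ⟨e', he'⟩
      · exact Or.inl (conj_model_one (DPlus (F := F) hm) (hkPlus (n + 1)) (fixes_plus (n + 1) σ) hj
          (DPlus (F := AutPSL.fixField σ) hm) (hkPlus (n + 1)) hg' (plusRat _)
          (X.change hj' _ e' 1 one_ne_zero he') rfl)
      · obtain ⟨hc, ha⟩ := conj_model_graph (DPlus (F := F) hm) (hkPlus (n + 1))
          (fixes_plus (n + 1) σ) hj (DMinus (n := n) (by omega) hab₀) (hkMinus n) hg'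
          (g0Rat hm σ _ h1 h2 h3 h4) (X.change hj' _ e' 1 one_ne_zero he') (chi_g0 hm)
        exact Or.inr ⟨hc, rfl, ha⟩
    · let X₂ := X.change hj' _ e 1 one_ne_zero he
      refine (plus_ne_minus (aniso_map hr hodd hj hab₁) X₂.h (fun u => ?_) X₂.hw).elim
      refine DFunLike.congr_fun (qf_ext_rat (AutPSL.fixField σ).subtype
        (R := (qPlus (n + 1)).comp X₂.h.toLinearMap)
        (R' := X₂.w • qMinusC n _ _) fun v => ?_) u
      rw [QuadraticMap.comp_apply, smul_apply, LinearEquiv.coe_coe,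
        ← quadFormPlus_eq, X₂.val, ← quadFormMinus_eq, smul_eq_mul]
      simp [Cfsg.quadFormMinus, map_sum]

omit hg in
/-- Two elements of the same parity and order `r` in the plus case are conjugate. -/
theorem plus_coset_conj {g₁ g₂ : GS (Cfsg.quadFormPlus (n + 1) F)}
    (h₁ : ((DPlus (F := F) hm).conjQ g₁ * (DPlus (F := F) hm).fieldQ σ (fixes_plus (n + 1) σ)) ^ r = 1)
    (h₂ : ((DPlus (F := F) hm).conjQ g₂ * (DPlus (F := F) hm).fieldQ σ (fixes_plus (n + 1) σ)) ^ r = 1)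
    (hc : (DPlus (F := F) hm).chi (hkPlus (n + 1)) g₂ = (DPlus (F := F) hm).chi (hkPlus (n + 1)) g₁) :
    ∃ a ∈ (DPlus (F := F) hm).rot (hkPlus (n + 1)),
      (DPlus (F := F) hm).conjQ g₂ * (DPlus (F := F) hm).fieldQ σ (fixes_plus (n + 1) σ) =
        (DPlus (F := F) hm).conjQ a *
          ((DPlus (F := F) hm).conjQ g₁ * (DPlus (F := F) hm).fieldQ σ (fixes_plus (n + 1) σ)) *
          ((DPlus (F := F) hm).conjQ a)⁻¹ := by
  rcases plus_conj_cases hm hr hp h₁ with ⟨c₁, a, ha, e₁⟩ | ⟨c₁, -, a, ha, e₁⟩ <;>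
    rcases plus_conj_cases hm hr hp h₂ with ⟨c₂, b, hb, e₂⟩ | ⟨c₂, -, b, hb, e₂⟩ <;>
    first
      | exact absurd (hc.symm.trans c₂) c₁
      | exact absurd (hc.trans c₁) c₂
      | exact ⟨b * a⁻¹, mul_mem hb (inv_mem ha), by rw [e₁, e₂, map_mul, map_inv]; group⟩

end Plus

section Minus

variable {F : Type*} [Field F] [Finite F] {n : ℕ} (hn : 3 ≤ n) {F₀ : Type*} [Field F₀] [Finite F₀]
  {j : F₀ →+* F} {a₀ b₀ : F₀} (hab₀ : Aniso a₀ b₀) (hab : Aniso (j a₀) (j b₀))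
  {σ : F ≃+* F} (hσ : Fixes (Cfsg.quadFormMinus n F (j a₀) (j b₀)) σ) {r : ℕ}
  (hr : orderOf σ = r) (hp : r.Prime) (hj : ∀ a, σ a = a ↔ a ∈ Set.range j)
  {g : GS (Cfsg.quadFormMinus n F (j a₀) (j b₀))}
  (hg : ((DMinus hn hab).conjQ g * (DMinus hn hab).fieldQ σ hσ) ^ r = 1)

include hab₀ hr hp hj hg

set_option maxHeartbeats 4000000 in
/-- In the minus case the coset has one class. -/
theorem minus_conj : (DMinus hn hab).chi (hkMinus n) g = 1 ∧
    ∃ a ∈ (DMinus hn hab).rot (hkMinus n),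
      (DMinus hn hab).conjQ g * (DMinus hn hab).fieldQ σ hσ =
        (DMinus hn hab).conjQ a * ((DMinus hn hab).conjQ 1 * (DMinus hn hab).fieldQ σ hσ) *
          ((DMinus hn hab).conjQ a)⁻¹ := by
  set D := DMinus hn hab
  obtain ⟨g', Q₀, hg', hQ₀, ⟨X⟩⟩ := exists_rat D hσ hr hp.pos hj hg
  rcases exists_even_model (hkMinus n) hQ₀ hab₀ with ⟨e, he⟩ | ⟨e, he⟩
  · let X₂ := X.change (fun a => (hj _).2 ⟨a, rfl⟩) _ e 1 one_ne_zero he
    refine (plus_ne_minus hab X₂.h.symm (fun u => ?_) (inv_ne_zero X₂.hw)).elim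
    obtain ⟨v, rfl⟩ := X₂.h.surjective u
    rw [LinearEquiv.symm_apply_apply]
    have h1 : qMinusC n (j a₀) (j b₀) (X₂.h v) = X₂.w * qPlus (n + 1) v := by
      refine DFunLike.congr_fun (qf_ext_rat j
        (R := (qMinusC n (j a₀) (j b₀)).comp X₂.h.toLinearMap) (R' := X₂.w • qPlus (n + 1))
        fun v => ?_) v
      show qMinusC n (j a₀) (j b₀) (X₂.h (⇑j ∘ v)) = X₂.w * qPlus (n + 1) (⇑j ∘ v)
      rw [← quadFormMinus_eq, X₂.val, ← quadFormPlus_eq]
      simp [Cfsg.quadFormPlus, map_sum]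
    rw [h1, inv_mul_cancel_left₀ X₂.hw]
  · let X₂ := X.change (fun a => (hj _).2 ⟨a, rfl⟩) _ e 1 one_ne_zero he
    exact conj_model_one D (hkMinus n) hσ hj (DMinus hn hab₀) (hkMinus n) hg' (minusRat j a₀ b₀) X₂ rfl

end Minus

end Cfsg.Agent.Lib.OrthField
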