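import Cfsg.Agent.Lib.OrthField.MinusSetup

/-!
Splitting of the classes of field and graph-field automorphisms in even dimension.
-/

set_option autoImplicit false

namespace Cfsg.Agent.Lib.OrthField

open Module QuadraticMap Cfsg.Agent.Lib.Forms Cfsg.Agent.Lib.OrthStd Cfsg.Agent.Lib.OrthOmega
open scoped Matrix

section Transfer

variable {X Y : Type*} [Group X] [Group Y] (E : X ≃* Y)

theorem isConjUnder_map_iff (H : Subgroup X) (x y : X) :
    Cfsg.IsConjUnder (H.map E.toMonoidHom) (E x) (E y) ↔ Cfsg.IsConjUnder H x y := by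
  constructor
  · rintro ⟨_, ⟨h, hh, rfl⟩, e⟩
    exact ⟨h, hh, E.injective (by simpa using e)⟩
  · rintro ⟨h, hh, rfl⟩
    exact ⟨E h, ⟨h, hh, rfl⟩, by simp⟩

theorem splitClassCount_map (H K : Subgroup X) (x : X) :
    Cfsg.splitClassCount (H.map E.toMonoidHom) (K.map E.toMonoidHom) (E x) =
      Cfsg.splitClassCount H K x :=
  (Nat.card_congr (Quot.congr (E.toEquiv.subtypeEquiv fun y => (isConjUnder_map_iff E H x y).symm)
    fun a b => (isConjUnder_map_iff E K a.1 b.1).symm)).symm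

theorem centralizer_map_equiv (H : Subgroup X) (x : X) :
    Nonempty (↥(H ⊓ Subgroup.centralizer {x}) ≃*
      ↥(H.map E.toMonoidHom ⊓ Subgroup.centralizer {E x})) := by
  refine ⟨(E.subgroupMap _).trans (MulEquiv.subgroupCongr ?_)⟩
  show (H ⊓ Subgroup.centralizer {x}).map E.toMonoidHom = _
  ext y
  obtain ⟨y, rfl⟩ := E.surjective y
  simp only [Subgroup.mem_map_equiv, Subgroup.mem_inf, Subgroup.mem_centralizer_singleton_iff,
    MulEquiv.symm_apply_apply, ← map_mul, E.injective.eq_iff]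

end Transfer

variable {F : Type*} [Field F] [Finite F] {ι : Type} [Fintype ι] [DecidableEq ι]
  {f : (ι → F) → F}

theorem exists_rot_mult {F₀ : Type*} [Field F₀] [Finite F₀] {f₀ : (ι → F₀) → F₀} (D₀ : OF f₀)
    {k : ℕ} (hk : Fintype.card ι = 2 * k) (c : F₀ˣ) (h : ∃ g : GS f₀, D₀.mult g = c) :
    ∃ g ∈ D₀.rot hk, D₀.mult g = c := by
  obtain ⟨g, hg⟩ := h
  rcases mult_zmod2_cases (D₀.chi hk g) with h1 | h1
  · exact ⟨g, h1, hg⟩
  · obtain ⟨o, ho⟩ := D₀.exists_not_rot hk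
    exact ⟨g * D₀.iso o, by rw [D₀.mem_rot, map_mul, h1, ho]; rfl,
      by rw [map_mul, D₀.mult_iso, mul_one, hg]⟩

theorem exists_mult_of_equiv (D : OF f) {c : F} (hc : c ≠ 0)
    (h : ∃ s : (ι → F) ≃ₗ[F] (ι → F), ∀ v, D.Q (s v) = c * D.Q v) :
    ∃ g : GS f, D.mult g = Units.mk0 c hc := by
  obtain ⟨s, hs⟩ := h
  have hv : ∀ v, f ((glEquiv.symm s : GL ι F).1 *ᵥ v) = c * f v := fun v => by
    rw [← glEquiv_apply, MulEquiv.apply_symm_apply, D.hf, D.hf, hs]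
  exact ⟨⟨glEquiv.symm s, Units.mk0 c hc, hv⟩, D.mult_eq hv⟩

theorem exists_mult_minus {n : ℕ} (hn : 3 ≤ n) {a b : F} (hab : Aniso a b) (c : Fˣ) :
    ∃ g : GS (Cfsg.quadFormMinus n F a b), (DMinus hn hab).mult g = c := by
  obtain ⟨s, hs⟩ := Orth52.exists_similar_qPlus (F := F) n c.ne_zero
  obtain ⟨t, ht⟩ := Orth52.exists_similar_qBin hab c.ne_zero
  obtain ⟨g, hg⟩ := exists_mult_of_equiv (DMinus hn hab) c.ne_zero
    ⟨((minusSplit n F).trans (s.prodCongr t)).trans (minusSplit n F).symm, fun v => by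
      show ((qPlus (F := F) n).prod (qBin a b)) (s (minusSplit n F v).1, t (minusSplit n F v).2) =
        (c : F) * ((qPlus (F := F) n).prod (qBin a b)) (minusSplit n F v)
      rw [QuadraticMap.prod_apply, QuadraticMap.prod_apply, hs, ht, mul_add]⟩
  exact ⟨g, hg.trans (Units.ext rfl)⟩

theorem exists_mult_plus {m : ℕ} (hm : 4 ≤ m) (c : Fˣ) :
    ∃ g : GS (Cfsg.quadFormPlus m F), (DPlus (F := F) hm).mult g = c := by
  obtain ⟨g, hg⟩ := exists_mult_of_equiv (DPlus (F := F) hm) c.ne_zero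
    (Orth52.exists_similar_qPlus (F := F) m c.ne_zero)
  exact ⟨g, hg.trans (Units.ext rfl)⟩

section IndexOne

variable {F₀ : Type*} [Field F₀] [Finite F₀] {ι₀ : Type} [Fintype ι₀] [DecidableEq ι₀]
  {f₀ : (ι₀ → F₀) → F₀} {g : GS f} {σ : F ≃+* F} {j : F₀ →+* F}
  (D : OF f) (D₀ : OF f₀) (X : Rat g σ j f₀) {k : ℕ} (hk : Fintype.card ι = 2 * k)
  (hk₀ : Fintype.card ι₀ = 2 * k)

/-- The subgroup whose index in the rotations counts the classes. -/
noncomputable def splitL : Subgroup (GS f) :=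
  D.omegaG ⊔ (D₀.rot hk₀).map (emb D D₀ X) ⊔ D.scal.range

/-- One class when no new squares appear. -/
theorem splitL_index_one (hns : (2 : F) ≠ 0 → ∀ c : F₀, ¬ IsSquare c → ¬ IsSquare (j c))
    (hmult : ∀ c : F₀ˣ, ∃ g₀ : GS f₀, D₀.mult g₀ = c) :
    (splitL D D₀ X hk₀).relIndex (D.rot hk) = 1 := by
  rw [Subgroup.relIndex_eq_one]
  intro y hy
  by_cases h2 : (2 : F) = 0
  · obtain ⟨z, o, rfl, ho⟩ := D.decomp_rot_two hk h2 hy
    exact mul_mem (Subgroup.mem_sup_right ⟨z, rfl⟩) (Subgroup.mem_sup_left (Subgroup.mem_sup_left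
      ⟨o, (Orth52.mem_commutator_iff_two D.nd h2 (by have := D.h5'; omega) D.hne4 o).2 ho, rfl⟩))
  have h20 : (2 : F₀) ≠ 0 := fun h => h2 (by rw [← map_ofNat j 2, h, map_zero])
  have hemb : ∀ y₀ ∈ D₀.rot hk₀, emb D D₀ X y₀ ∈ splitL D D₀ X hk₀ := fun y₀ h =>
    Subgroup.mem_sup_left (Subgroup.mem_sup_right ⟨y₀, h, rfl⟩)
  have sq : ∀ y ∈ D.rot hk, IsSquare (D.mult y : F) → y ∈ splitL D D₀ X hk₀ := by
    rintro y hy ⟨s, hs⟩
    have hs0 : s ≠ 0 := fun e => (D.mult y).ne_zero (by rw [hs, e, mul_zero])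
    obtain ⟨o, rfl, ho⟩ := D.decomp_rot_sq hk hy (z := Units.mk0 s hs0) (Units.ext hs)
    refine mul_mem (Subgroup.mem_sup_right ⟨_, rfl⟩) ?_
    by_cases hsp : D.spin h2 o = 1
    · exact Subgroup.mem_sup_left (Subgroup.mem_sup_left
        ⟨o, (D.mem_commutator h2 o).2 ⟨ho, hsp⟩, rfl⟩)
    obtain ⟨o₁, ho₁, hs₁⟩ := exists_spin_embO D D₀ X h2 h20 (hns h2)
    have h1 : o * embO D D₀ X o₁ ∈ commutator (orth D.Q) := by
      refine (D.mem_commutator h2 _).2
        ⟨by rw [D.dickson_mul', ho, dickson_embO, ho₁, add_zero], ?_⟩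
      show D.spin h2 _ = 1
      rw [map_mul, (Int.units_eq_one_or _).resolve_left hsp,
        (Int.units_eq_one_or _).resolve_left hs₁]
      rfl
    rw [show D.iso o = D.iso (o * embO D D₀ X o₁) * (D.iso (embO D D₀ X o₁))⁻¹ by
      rw [map_mul, mul_inv_cancel_right]]
    refine mul_mem (Subgroup.mem_sup_left (Subgroup.mem_sup_left ⟨_, h1, rfl⟩)) (inv_mem ?_)
    rw [iso_embO]
    exact hemb _ ((D₀.iso_mem_rot hk₀).2 ho₁)
  by_cases hsq : IsSquare (D.mult y : F)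
  · exact sq y hy hsq
  obtain ⟨ν, hν⟩ := exists_nonsq h20
  have hν0 : ν ≠ 0 := fun h => hν (h ▸ IsSquare.zero)
  obtain ⟨y₀, hy₀, hm⟩ := exists_rot_mult D₀ hk₀ (Units.mk0 ν hν0) (hmult _)
  have hy₀' : emb D D₀ X y₀ ∈ D.rot hk := (emb_mem_rot_iff D D₀ X hk hk₀ y₀).2 hy₀
  rw [← mul_inv_cancel_right y (emb D D₀ X y₀)]
  refine mul_mem (sq _ (mul_mem hy hy₀') ?_) (inv_mem (hemb _ hy₀))
  rw [map_mul, Units.val_mul, mult_emb, hm]
  have := Fintype.ofFinite F
  classical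
  have hchar : ringChar F ≠ 2 := fun e => h2 (by
    have := ringChar.Nat.cast_ringChar (R := F)
    rw [e] at this; exact_mod_cast this)
  show IsSquare ((D.mult y : F) * j ν)
  rw [Orth52.isSquare_mul_nonsquare hchar (Units.ne_zero _) ((map_ne_zero j).2 hν0) (hns h2 ν hν)]
  exact hsq

end IndexOne

/-- In a quadratic extension no anisotropic binary form over the fixed field stays anisotropic. -/
theorem not_aniso_two {F₀ : Type*} [Field F₀] [Finite F₀] {σ : F ≃+* F} {j : F₀ →+* F}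
    (hσ : orderOf σ = 2) (hj : ∀ x, σ x = x ↔ x ∈ Set.range j) {a₀ b₀ : F₀} (hab : Aniso a₀ b₀) :
    ¬ Aniso (j a₀) (j b₀) := by
  intro hF
  obtain ⟨a₁, b₁, r, hab₁, -, -, ha, hb⟩ := exists_aniso_root hσ hj
  obtain ⟨e, he⟩ := exists_bin_equiv hab₁ hab
  have key : ∀ z, qBin (j a₀) (j b₀) (bc j e z) = qBin (j a₁) (j b₁) z := fun z => by
    refine DFunLike.congr_fun (qf_ext_rat j (R := (qBin (j a₀) (j b₀)).comp (bc j e).toLinearMap)
      (R' := qBin (j a₁) (j b₁)) fun v => ?_) z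
    rw [QuadraticMap.comp_apply, LinearEquiv.coe_coe, bc_apply]
    have := congrArg j (he v)
    simpa [qBin_apply] using this
  have h0 := key ![r, 1]
  rw [qBin_apply (j a₁) (j b₁), ha, hb] at h0
  simp at h0
  have h1 : qBin (j a₀) (j b₀) (bc j e ![r, 1]) = 0 := by rw [h0]; ring
  have h2 : bc j e ![r, 1] = 0 := qBin_anisotropic hF _ h1
  rw [LinearEquiv.map_eq_zero_iff] at h2
  simpa using congrFun h2 1

end Cfsg.Agent.Lib.OrthField
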