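import Cfsg.Agent.Lib.AutPOmega.Bridge
import Cfsg.Agent.Lib.AutPSL.Descent
import Cfsg.Agent.Lib.Orth52.Spinor

/-!
The automorphisms of `POmega` induced by similarities and by field automorphisms.
-/

set_option autoImplicit false

namespace Cfsg.Agent.Lib.OrthField

open Module QuadraticMap Cfsg.Agent.Lib.Forms Cfsg.Agent.Lib.OrthOmega Cfsg.Agent.Lib.AutPOmega
open Cfsg.Agent.Lib.AutPSL (tnorm tnorm_succ tnorm_zero mapGL coe_mapGL mapGL_scalar)
open scoped Matrix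

variable {F : Type*} [Field F] {ι : Type} [Fintype ι] [DecidableEq ι]

/-- An orthogonal space in coordinates: a function with its non-degenerate quadratic form. -/
structure OF (f : (ι → F) → F) where
  Q : QuadraticForm F (ι → F)
  hf : ∀ v, f v = Q v
  nd : Nondeg Q
  h7 : 7 ≤ Fintype.card ι

variable {f : (ι → F) → F}

/-- The similarity group. -/
abbrev GS (f : (ι → F) → F) : Subgroup (GL ι F) := Cfsg.Geo.quadSimilarityGroup (F := F) f

/-- `σ` fixes the coefficients of `f`. -/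
def Fixes (f : (ι → F) → F) (σ : F ≃+* F) : Prop := ∀ v : ι → F, f (fun i => σ (v i)) = σ (f v)

theorem Fixes.one : Fixes f (1 : F ≃+* F) := fun _ => rfl

theorem Fixes.mul {σ τ : F ≃+* F} (hσ : Fixes f σ) (hτ : Fixes f τ) : Fixes f (σ * τ) := fun v => by
  show f (fun i => σ (τ (v i))) = σ (τ (f v))
  rw [hσ fun i => τ (v i), hτ v]

theorem Fixes.pow {σ : F ≃+* F} (hσ : Fixes f σ) : ∀ k : ℕ, Fixes f (σ ^ k)
  | 0 => by rw [pow_zero]; exact Fixes.one
  | k + 1 => by rw [pow_succ]; exact (Fixes.pow hσ k).mul hσ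

namespace OF

variable (D : OF f)
include D

theorem h7' : 7 ≤ finrank F (ι → F) := by rw [Module.finrank_fintype_fun_eq_card]; exact D.h7

theorem h5' : 5 ≤ finrank F (ι → F) := by have := D.h7'; omega

theorem hne4 : (∃ a : F, a ≠ 0 ∧ a ≠ 1) ∨ finrank F (ι → F) ≠ 4 := Or.inr (by have := D.h7'; omega)

theorem exists_ne : ∃ v, f v ≠ 0 := by
  have : Nonempty ι := Fintype.card_pos_iff.1 (by have := D.h7; omega)
  obtain ⟨i⟩ := this
  have hx : (Pi.single i 1 : ι → F) ≠ 0 := fun h => one_ne_zero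
    (by simpa using congrFun h i : (1 : F) = 0)
  obtain ⟨y, hy⟩ := exists_Q_ne_zero D.nd hx
  exact ⟨y, by rwa [D.hf]⟩

theorem exists_mult (g : GS f) :
    ∃ c : Fˣ, ∀ v, f ((g.1 : Matrix ι ι F) *ᵥ v) = (c : F) * f v := g.2

/-- The multiplier. -/
noncomputable def mult : GS f →* Fˣ where
  toFun g := (D.exists_mult g).choose
  map_one' := by
    obtain ⟨v, hv⟩ := D.exists_ne
    refine Units.ext (mul_right_cancel₀ hv ?_)
    rw [← (D.exists_mult 1).choose_spec v]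
    simp
  map_mul' g h := by
    obtain ⟨v, hv⟩ := D.exists_ne
    refine Units.ext (mul_right_cancel₀ hv ?_)
    rw [← (D.exists_mult (g * h)).choose_spec v, Units.val_mul, mul_assoc,
      ← (D.exists_mult h).choose_spec v, ← (D.exists_mult g).choose_spec, Matrix.mulVec_mulVec]
    rfl

theorem mult_spec (g : GS f) (v : ι → F) :
    f ((g.1 : Matrix ι ι F) *ᵥ v) = (D.mult g : F) * f v := (D.exists_mult g).choose_spec v

theorem mult_eq {g : GS f} {c : Fˣ} (h : ∀ v, f ((g.1 : Matrix ι ι F) *ᵥ v) = (c : F) * f v) :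
    D.mult g = c := by
  obtain ⟨v, hv⟩ := D.exists_ne
  exact Units.ext (mul_right_cancel₀ hv ((D.mult_spec g v).symm.trans (h v)))

/-- The semisimilarity of a similarity. -/
noncomputable def ofGS (g : GS f) : Semisim D.Q :=
  Semisim.ofPair D.hf g.1 (RingEquiv.refl F) (D.mult g) fun v => D.mult_spec g v

theorem ofGS_apply (g : GS f) (v : ι → F) : (D.ofGS g).toAdd v = (g.1 : Matrix ι ι F) *ᵥ v := rfl

/-- The semisimilarity of a field automorphism. -/
noncomputable def fieldS (σ : F ≃+* F) (hσ : Fixes f σ) : Semisim D.Q :=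
  Semisim.ofPair D.hf 1 σ 1 fun v => by
    rw [Units.val_one, Units.val_one, Matrix.one_mulVec, one_mul]; exact hσ v

theorem fieldS_apply (σ : F ≃+* F) (hσ : Fixes f σ) (v : ι → F) :
    (D.fieldS σ hσ).toAdd v = fun i => σ (v i) := by
  show ((1 : GL ι F) : Matrix ι ι F) *ᵥ (⇑σ ∘ v) = _
  rw [Units.val_one, Matrix.one_mulVec]; rfl

theorem aut_congr {S T : Semisim D.Q} (h : ∀ v, S.toAdd v = T.toAdd v) : S.aut = T.aut := by
  have : S.toAdd = T.toAdd := AddEquiv.ext h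
  refine Semisim.aut_ext fun g => ?_
  rw [S.aut_toP, T.aut_toP]
  congr 1
  refine Subtype.ext (orth_ext fun v => ?_)
  show S.toAdd (g.1.1 (S.toAdd.symm v)) = T.toAdd (g.1.1 (T.toAdd.symm v))
  rw [this]

/-- A scalar similarity. -/
def scal : Fˣ →* GS f :=
  (Matrix.GeneralLinearGroup.scalar ι).codRestrict _ fun z => ⟨z * z, fun v => by
    rw [Matrix.GeneralLinearGroup.coe_scalar, Matrix.scalar_apply]
    have : Matrix.diagonal (fun _ => (z : F)) *ᵥ v = (z : F) • v := by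
      funext i; simp [Matrix.mulVec_diagonal]
    rw [this, D.hf, D.hf, Q_smul, Units.val_mul]⟩

theorem coe_scal_mulVec (z : Fˣ) (v : ι → F) :
    ((D.scal z).1 : Matrix ι ι F) *ᵥ v = (z : F) • v := by
  show Matrix.scalar ι (z : F) *ᵥ v = _
  funext i; simp [Matrix.mulVec_diagonal]

theorem mult_scal (z : Fˣ) : D.mult (D.scal z) = z * z :=
  D.mult_eq fun v => by rw [coe_scal_mulVec, D.hf, D.hf, Q_smul, Units.val_mul]

theorem scal_comm (z : Fˣ) (g : GS f) : Commute (D.scal z) g :=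
  Subtype.ext (Matrix.GeneralLinearGroup.scalar_commute z g.1)

theorem scal_injective : Function.Injective D.scal := fun a b h => by
  have : Nonempty ι := Fintype.card_pos_iff.1 (by have := D.h7; omega)
  obtain ⟨i⟩ := this
  have h1 := congrArg (fun g : GS f => ((g.1 : Matrix ι ι F) *ᵥ (Pi.single i 1 : ι → F)) i) h
  simp only [coe_scal_mulVec] at h1
  exact Units.ext (by simpa using h1)

variable [Finite F]

/-- Automorphisms of `POmega` as automorphisms of `EG Q` modulo its centre. -/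
noncomputable def toPG' : MulAut (Cfsg.POmega F f) ≃* MulAut (PG D.Q) :=
  AutPOmega.toPG D.nd D.h5' D.hf

/-- Conjugation by a similarity. -/
noncomputable def conjQ : GS f →* MulAut (Cfsg.POmega F f) where
  toFun g := D.toPG'.symm (D.ofGS g).aut
  map_one' := by
    rw [show (D.ofGS 1).aut = 1 from ?_, map_one]
    have h : (D.ofGS 1).aut = (D.ofGS 1).aut * (D.ofGS 1).aut := by
      rw [← Semisim.aut_mul]
      exact D.aut_congr fun v => by
        show _ = (D.ofGS 1).toAdd ((D.ofGS 1).toAdd v)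
        simp [D.ofGS_apply]
    exact left_eq_mul.1 h
  map_mul' g h := by
    rw [← map_mul, ← Semisim.aut_mul]
    congr 1
    exact D.aut_congr fun v => by
      show _ = (D.ofGS g).toAdd ((D.ofGS h).toAdd v)
      simp [D.ofGS_apply, Matrix.mulVec_mulVec]

/-- The automorphism of a field automorphism fixing the form. -/
noncomputable def fieldQ (σ : F ≃+* F) (hσ : Fixes f σ) : MulAut (Cfsg.POmega F f) :=
  D.toPG'.symm (D.fieldS σ hσ).aut

theorem toPG_conjQ (g : GS f) : D.toPG' (D.conjQ g) = (D.ofGS g).aut :=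
  MulEquiv.apply_symm_apply _ _

theorem toPG_fieldQ (σ : F ≃+* F) (hσ : Fixes f σ) :
    D.toPG' (D.fieldQ σ hσ) = (D.fieldS σ hσ).aut := MulEquiv.apply_symm_apply _ _

theorem fieldQ_congr {σ τ : F ≃+* F} (h : σ = τ) (hσ : Fixes f σ) (hτ : Fixes f τ) :
    D.fieldQ σ hσ = D.fieldQ τ hτ := by subst h; rfl

theorem fieldQ_mul (σ τ : F ≃+* F) (hσ : Fixes f σ) (hτ : Fixes f τ) :
    D.fieldQ σ hσ * D.fieldQ τ hτ = D.fieldQ (σ * τ) (hσ.mul hτ) := by
  apply D.toPG'.injective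
  rw [map_mul, toPG_fieldQ, toPG_fieldQ, toPG_fieldQ, ← Semisim.aut_mul]
  exact D.aut_congr fun v => by
    show (D.fieldS σ hσ).toAdd ((D.fieldS τ hτ).toAdd v) = _
    simp only [D.fieldS_apply]
    rfl

theorem fieldQ_one (h : Fixes f (1 : F ≃+* F)) : D.fieldQ 1 h = 1 :=
  left_eq_mul.1 ((D.fieldQ_congr (one_mul 1).symm h (h.mul h)).trans (D.fieldQ_mul 1 1 h h).symm)

theorem fieldQ_pow (σ : F ≃+* F) (hσ : Fixes f σ) : ∀ k : ℕ,
    D.fieldQ σ hσ ^ k = D.fieldQ (σ ^ k) (hσ.pow k)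
  | 0 => by rw [pow_zero, D.fieldQ_congr (pow_zero σ) _ Fixes.one, D.fieldQ_one]
  | k + 1 => by
    rw [pow_succ, fieldQ_pow σ hσ k, D.fieldQ_mul]
    exact D.fieldQ_congr (pow_succ σ k).symm _ _

omit D in
theorem map_mulVec_comp (σ : F ≃+* F) (M : Matrix ι ι F) (v : ι → F) :
    M.map σ *ᵥ (fun i => σ (v i)) = fun i => σ ((M *ᵥ v) i) :=
  funext fun i => (RingHom.map_mulVec σ.toRingHom M v i).symm

theorem mapGL_mem {σ : F ≃+* F} (hσ : Fixes f σ) (g : GS f) : mapGL σ g.1 ∈ GS f := by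
  refine ⟨Units.map (σ.toRingHom : F →* F) (D.mult g), fun v => ?_⟩
  rw [coe_mapGL]
  have hv : v = fun i => σ (σ.symm (v i)) := funext fun i => (σ.apply_symm_apply _).symm
  generalize hw : (fun i => σ.symm (v i)) = w
  have hv' : v = fun i => σ (w i) := by rw [← hw]; exact hv
  rw [hv', map_mulVec_comp, hσ, hσ, D.mult_spec, map_mul]
  rfl

/-- `σ` applied to the entries. -/
noncomputable def mapGS (σ : F ≃+* F) (hσ : Fixes f σ) : MulAut (GS f) :=
  MulEquiv.ofBijective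
    (((mapGL σ).toMonoidHom.comp (GS f).subtype).codRestrict _ (D.mapGL_mem hσ))
    (Finite.injective_iff_bijective.1 fun _ _ h =>
      Subtype.ext ((mapGL σ).injective (congrArg Subtype.val h)))

theorem coe_mapGS (σ : F ≃+* F) (hσ : Fixes f σ) (g : GS f) :
    ((D.mapGS σ hσ g).1 : Matrix ι ι F) = (g.1 : Matrix ι ι F).map σ := rfl

theorem val_mapGS (σ : F ≃+* F) (hσ : Fixes f σ) (g : GS f) :
    (D.mapGS σ hσ g).1 = mapGL σ g.1 := rfl

theorem fieldQ_conjQ (σ : F ≃+* F) (hσ : Fixes f σ) (g : GS f) :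
    D.fieldQ σ hσ * D.conjQ g = D.conjQ (D.mapGS σ hσ g) * D.fieldQ σ hσ := by
  apply D.toPG'.injective
  rw [map_mul, map_mul, toPG_fieldQ, toPG_conjQ, toPG_conjQ, ← Semisim.aut_mul, ← Semisim.aut_mul]
  exact D.aut_congr fun v => by
    show (D.fieldS σ hσ).toAdd ((D.ofGS g).toAdd v) = (D.ofGS _).toAdd ((D.fieldS σ hσ).toAdd v)
    simp only [D.fieldS_apply, D.ofGS_apply, coe_mapGS, map_mulVec_comp]

theorem mapGS_scal (σ : F ≃+* F) (hσ : Fixes f σ) (z : Fˣ) :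
    D.mapGS σ hσ (D.scal z) = D.scal (AutPSL.mapUnits σ z) :=
  Subtype.ext (Matrix.GeneralLinearGroup.map_scalar σ.toRingHom z)

theorem conjQ_scal (z : Fˣ) : D.conjQ (D.scal z) = 1 := by
  apply D.toPG'.injective
  rw [map_one, toPG_conjQ]
  refine Semisim.aut_ext fun g => ?_
  rw [Semisim.aut_toP, MulAut.one_apply]
  congr 1
  refine Subtype.ext (orth_ext fun v => ?_)
  show (D.ofGS (D.scal z)).toAdd (g.1.1 ((D.ofGS (D.scal z)).toAdd.symm v)) = g.1.1 v
  obtain ⟨w, rfl⟩ := (D.ofGS (D.scal z)).toAdd.surjective v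
  rw [AddEquiv.symm_apply_apply, D.ofGS_apply, D.ofGS_apply, coe_scal_mulVec, coe_scal_mulVec,
    map_smul]

/-- A semisimilarity inducing the identity is a scalar. -/
theorem scalar_of_aut_eq_one {S : Semisim D.Q} (h : S.aut = 1) :
    ∃ c : F, c ≠ 0 ∧ (∀ v, S.toAdd v = c • v) ∧ S.τ = RingEquiv.refl F := by
  obtain ⟨p, hchar⟩ := CharP.exists F
  have : Fact p.Prime := ⟨CharP.char_is_prime F p⟩
  have hQ := D.nd
  have h7 := D.h7'
  have h5 := D.h5'
  have line : ∀ a : ι → F, a ≠ 0 → D.Q a = 0 → ∃ t : F, t ≠ 0 ∧ S.toAdd a = t • a := by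
    intro a ha0 ha
    have h1 := S.assoc p hQ h7 ha0 ha
    have h2 := (Semisim.ofOrth (1 : orth D.Q)).assoc p hQ h7 ha0 ha
    have e : (Semisim.ofOrth (1 : orth D.Q)).aut = 1 := by
      have := Semisim.conj_eq_aut (Q := D.Q) 1
      simpa using this.symm
    rw [h] at h1
    rw [e, Semisim.ofOrth_apply] at h2
    exact Assoc.unique p hQ h7 h2 h1
  obtain ⟨e, e', hp⟩ := exists_hyp hQ (by omega)
  obtain ⟨c, hc, hSe⟩ := line e hp.left_ne hp.left
  obtain ⟨d, -, hSf⟩ := line e' hp.symm.left_ne hp.right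
  have hcore : ∀ {x y : ι → F}, HypPair D.Q x y → ∀ {k : F}, S.toAdd x = k • x →
      ∀ w ∈ core D.Q x y, D.Q w = 0 → S.toAdd w = k • w := by
    intro x y hxy k hx w hw hqw
    by_cases hw0 : w = 0
    · rw [hw0, map_zero, smul_zero]
    obtain ⟨s, -, hs⟩ := line w hw0 hqw
    have hsing : D.Q (x + w) = 0 := by
      rw [Q_add, hxy.left, hqw, (mem_core.1 hw).1, add_zero, add_zero]
    have hne : x + w ≠ 0 := fun h0 => by
      have := congrArg (polar D.Q y) h0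
      rw [polar_add_right, hxy.pol', (mem_core.1 hw).2, add_zero, polar_zero_right] at this
      exact one_ne_zero this
    obtain ⟨t, -, ht⟩ := line _ hne hsing
    rw [map_add, hx, hs] at ht
    have h1 := congrArg (polar D.Q y) ht
    simp only [polar_add_right, polar_smul_right, hxy.pol', (mem_core.1 hw).2, smul_eq_mul, mul_one,
      mul_zero, add_zero] at h1
    rw [← h1, smul_add] at ht
    rw [hs, add_left_cancel ht]
  have he : ∀ w ∈ core D.Q e e', D.Q w = 0 → S.toAdd w = c • w := hcore hp hSe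
  have hfr := hp.finrank_core
  obtain ⟨⟨w₀, hw₀c⟩, hw₀0, hw₀⟩ := exists_singular (hp.nondeg_core hQ) (by omega)
  have hw₀' : w₀ ≠ 0 := fun h0 => hw₀0 (Subtype.ext h0)
  have hdc : d = c := by
    have h1 := he w₀ hw₀c hw₀
    have h2 := hcore hp.symm hSf w₀ (mem_core.2 ⟨(mem_core.1 hw₀c).2, (mem_core.1 hw₀c).1⟩) hw₀
    exact smul_left_injective F hw₀' (h2.symm.trans h1)
  have hτ : S.τ = RingEquiv.refl F := by
    refine RingEquiv.ext fun t => ?_
    have h1 := he (t • w₀) (Submodule.smul_mem _ t hw₀c)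
      (by rw [Q_smul, show D.Q w₀ = 0 from hw₀, mul_zero])
    rw [S.map_smul', he w₀ hw₀c hw₀, smul_comm c t w₀] at h1
    exact smul_left_injective F (smul_ne_zero hc hw₀') h1
  refine ⟨c, hc, fun v => ?_, hτ⟩
  have hsm : ∀ (t : F) x, S.toAdd x = c • x → S.toAdd (t • x) = c • t • x := fun t x hx => by
    rw [S.map_smul', hτ, hx, smul_comm]; rfl
  obtain ⟨s₁, s₂, s₃, m₁, m₂, m₃, q₁, q₂, q₃, hsum⟩ := core_sing_decomp hQ h5 hp
    (hp.proj_mem v)
  have hv : v = polar D.Q e' v • e + polar D.Q e v • e' + (s₁ + s₂ + s₃) := by rw [← hsum]; abel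
  rw [hv]
  simp only [map_add, smul_add, hsm _ _ hSe, hsm _ _ (hdc ▸ hSf), he _ m₁ q₁, he _ m₂ q₂,
    he _ m₃ q₃]

theorem eq_one_of_conjQ_mul_fieldQ {g : GS f} {σ : F ≃+* F} (hσ : Fixes f σ)
    (h : D.conjQ g * D.fieldQ σ hσ = 1) : σ = 1 ∧ ∃ z : Fˣ, g = D.scal z := by
  have h1 := congrArg D.toPG' h
  rw [map_mul, toPG_conjQ, toPG_fieldQ, map_one, ← Semisim.aut_mul] at h1
  obtain ⟨c, hc, hv, hτ⟩ := D.scalar_of_aut_eq_one h1
  have hσ1 : σ = 1 := RingEquiv.ext fun t => RingEquiv.congr_fun hτ t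
  refine ⟨hσ1, Units.mk0 c hc, Subtype.ext (Units.ext (Matrix.ext_of_mulVec_single fun i => ?_))⟩
  rw [coe_scal_mulVec]
  have := hv (Pi.single i 1)
  rw [show ((D.ofGS g).mul (D.fieldS σ hσ)).toAdd (Pi.single i 1) =
    (D.ofGS g).toAdd ((D.fieldS σ hσ).toAdd (Pi.single i 1)) from rfl, D.ofGS_apply,
    D.fieldS_apply] at this
  subst hσ1
  exact this

theorem conjQ_eq_one_iff {g : GS f} : D.conjQ g = 1 ↔ ∃ z : Fˣ, g = D.scal z := by
  refine ⟨fun h => (D.eq_one_of_conjQ_mul_fieldQ Fixes.one (g := g) ?_).2, ?_⟩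
  · rw [h, D.fieldQ_one, one_mul]
  · rintro ⟨z, rfl⟩; exact D.conjQ_scal z

theorem conjQ_eq_iff {g g' : GS f} : D.conjQ g = D.conjQ g' ↔ ∃ z : Fˣ, g' = D.scal z * g := by
  constructor
  · intro h
    obtain ⟨z, hz⟩ := D.conjQ_eq_one_iff.1 (show D.conjQ (g' * g⁻¹) = 1 by
      rw [map_mul, map_inv, ← h, mul_inv_cancel])
    exact ⟨z, by rw [← hz, inv_mul_cancel_right]⟩
  · rintro ⟨z, rfl⟩; rw [map_mul, D.conjQ_scal, one_mul]

theorem orderOf_fieldQ (σ : F ≃+* F) (hσ : Fixes f σ) :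
    orderOf (D.fieldQ σ hσ) = orderOf σ := by
  have h1 : D.fieldQ σ hσ ^ orderOf σ = 1 := by
    rw [fieldQ_pow, D.fieldQ_congr (pow_orderOf_eq_one σ) _ Fixes.one, fieldQ_one]
  refine Nat.dvd_antisymm (orderOf_dvd_of_pow_eq_one h1) (orderOf_dvd_of_pow_eq_one ?_)
  have h2 := pow_orderOf_eq_one (D.fieldQ σ hσ)
  rw [fieldQ_pow] at h2
  exact (D.eq_one_of_conjQ_mul_fieldQ (g := 1) _ (by rw [map_one, one_mul, h2])).1

theorem conjQ_mul_fieldQ_pow (g : GS f) (σ : F ≃+* F) (hσ : Fixes f σ) : ∀ k : ℕ,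
    (D.conjQ g * D.fieldQ σ hσ) ^ k =
      D.conjQ (tnorm (D.mapGS σ hσ) g k) * D.fieldQ (σ ^ k) (hσ.pow k)
  | 0 => by
    rw [pow_zero, tnorm_zero, map_one, one_mul, D.fieldQ_congr (pow_zero σ) _ Fixes.one,
      D.fieldQ_one]
  | k + 1 => by
    rw [pow_succ', conjQ_mul_fieldQ_pow g σ hσ k, tnorm_succ, map_mul,
      ← mul_assoc, mul_assoc (D.conjQ g) (D.fieldQ σ hσ), fieldQ_conjQ, mul_assoc, mul_assoc,
      D.fieldQ_mul, ← mul_assoc, D.fieldQ_congr (pow_succ' σ k).symm _ (hσ.pow (k + 1))]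

theorem induced_iff' (g : GS f) (β : MulAut (Cfsg.POmega F f)) :
    Cfsg.IsInducedBySemilinearPOmega f g.1 (RingEquiv.refl F) β ↔ β = D.conjQ g := by
  refine (AutPOmega.induced_iff D.nd D.h5' D.hf (D.ofGS g) g.1 (RingEquiv.refl F)
    (fun v => rfl) rfl β).trans ?_
  exact ⟨fun h => D.toPG'.injective (h.trans (D.toPG_conjQ g).symm),
    fun h => h ▸ D.toPG_conjQ g⟩

theorem similarityInduced_iff (β : MulAut (Cfsg.POmega F f)) :
    Cfsg.IsSimilarityInducedAutPOmega f β ↔ ∃ g : GS f, β = D.conjQ g :=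
  ⟨fun ⟨g, hg, h⟩ => ⟨⟨g, hg⟩, (D.induced_iff' ⟨g, hg⟩ β).1 h⟩,
    fun ⟨g, h⟩ => ⟨g.1, g.2, (D.induced_iff' g β).2 h⟩⟩

theorem fieldAutOf_iff (σ : F ≃+* F) (hσ : Fixes f σ) (β : MulAut (Cfsg.POmega F f)) :
    Cfsg.IsFieldAutPOmegaOf f σ β ↔ β = D.fieldQ σ hσ := by
  have h1 : Cfsg.IsFieldAutPOmegaOf f σ β ↔
      Cfsg.IsInducedBySemilinearPOmega f (1 : GL ι F) σ β := by
    simp only [Cfsg.IsFieldAutPOmegaOf, Cfsg.IsInducedBySemilinearPOmega, Units.val_one, inv_one,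
      one_mul, mul_one]
  refine h1.trans ((AutPOmega.induced_iff D.nd D.h5' D.hf (D.fieldS σ hσ) 1 σ
    (fun v => rfl) rfl β).trans ?_)
  exact ⟨fun h => D.toPG'.injective (h.trans (D.toPG_fieldQ σ hσ).symm),
    fun h => h ▸ D.toPG_fieldQ σ hσ⟩

theorem exists_semisim (h8 : NoTriality D.Q) (β : MulAut (Cfsg.POmega F f)) :
    ∃ S : Semisim D.Q, β = D.toPG'.symm S.aut := by
  obtain ⟨p, hchar⟩ := CharP.exists F
  have : Fact p.Prime := ⟨CharP.char_is_prime F p⟩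
  obtain ⟨S, hS⟩ := exists_semisim_aut p D.nd D.h7' h8 (D.toPG' β)
  exact ⟨S, by rw [← hS, MulEquiv.symm_apply_apply]⟩

/-- A similarity conjugated by a semisimilarity. -/
theorem exists_conjBy (S : Semisim D.Q) (g : GS f) :
    ∃ g' : GS f, (∀ v, (g'.1 : Matrix ι ι F) *ᵥ v =
        S.toAdd ((g.1 : Matrix ι ι F) *ᵥ S.toAdd.symm v)) ∧
      (D.mult g' : F) = S.τ (D.mult g) ∧
      D.toPG'.symm S.aut * D.conjQ g * (D.toPG'.symm S.aut)⁻¹ = D.conjQ g' := by
  set T := (S.mul (D.ofGS g)).mul S.inv with hT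
  have hTτ : T.τ = RingEquiv.refl F := RingEquiv.ext fun t => S.τ.apply_symm_apply t
  have hmat : ∀ v, (T.mat : Matrix ι ι F) *ᵥ v = T.toAdd v := fun v => by
    rw [Semisim.mat_mulVec]
    congr 1
    rw [hTτ]; rfl
  have hmem : T.mat ∈ GS f := ⟨Units.mk0 T.c T.c_ne, fun v => by
    rw [hmat, D.hf, D.hf, T.map_Q', hTτ]; rfl⟩
  refine ⟨⟨T.mat, hmem⟩, hmat, ?_, ?_⟩
  · obtain ⟨v, hv⟩ := D.exists_ne
    have h1 := D.mult_spec ⟨T.mat, hmem⟩ v
    rw [show ((⟨T.mat, hmem⟩ : GS f).1 : Matrix ι ι F) *ᵥ v = T.toAdd v from hmat v] at h1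
    refine mul_right_cancel₀ hv (h1.symm.trans ?_)
    show f (S.toAdd ((g.1 : Matrix ι ι F) *ᵥ S.toAdd.symm v)) = _
    rw [D.hf, S.map_Q', ← D.hf, D.mult_spec, map_mul, D.hf (S.toAdd.symm v)]
    conv_rhs => rw [← S.toAdd.apply_symm_apply v, D.hf, S.map_Q']
    ring
  · apply D.toPG'.injective
    simp only [map_mul, map_inv, MulEquiv.apply_symm_apply, toPG_conjQ]
    rw [← Semisim.aut_inv, ← Semisim.aut_mul, ← Semisim.aut_mul]
    exact D.aut_congr fun v => (hmat v).symm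

end OF

end Cfsg.Agent.Lib.OrthField
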