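import Cfsg.Agent.Lib.OrthField.Common
import Cfsg.Agent.Lib.AutPOmega.InnDiagMinus

/-!
The parity character of the similarities of an even-dimensional orthogonal space.
-/

set_option autoImplicit false

namespace Cfsg.Agent.Lib.OrthField

open Module QuadraticMap Cfsg.Agent.Lib.Forms Cfsg.Agent.Lib.OrthOmega
open scoped Matrix

variable {F : Type*} [Field F] [Finite F] {ι : Type} [Fintype ι] [DecidableEq ι]
  {f : (ι → F) → F}

/-- Square roots in characteristic two are unique. -/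
theorem sq_inj_two {K : Type*} [Field K] (h2 : (2 : K) = 0) {x y : Kˣ} (h : x * x = y * y) : x = y := by
  refine Units.ext (sub_eq_zero.1 ?_)
  have h' : (x : K) * x = (y : K) * y := by rw [← Units.val_mul, ← Units.val_mul, h]
  have : ((x : K) - y) * ((x : K) - y) = 0 := by linear_combination h' + ((y : K) * y - x * y) * h2
  exact mul_self_eq_zero.1 this

/-- The conjugate of a reflection by a semisimilarity. -/
theorem conjO_orefl {V : Type*} [AddCommGroup V] [Module F V] {Q : QuadraticForm F V}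
    (S : AutPOmega.Semisim Q) (v : V) : S.conjO (orefl Q v) = orefl Q (S.toAdd v) := by
  refine orth_ext fun x => ?_
  obtain ⟨y, rfl⟩ := S.toAdd.surjective x
  rw [S.conjO_apply, AddEquiv.symm_apply_apply]
  show S.toAdd (refl Q v y) = refl Q (S.toAdd v) (S.toAdd y)
  rw [refl_apply, refl_apply, map_sub, S.map_smul', S.map_Q', S.map_polar, map_mul, map_inv₀,
    _root_.mul_inv_rev]
  congr 2
  have := S.c_ne
  field_simp

namespace OF

variable (D : OF f)

theorem scal_iso_unique (h2 : (2 : F) = 0) {z z' : Fˣ} {o o' : orth D.Q}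
    (h : D.scal z * D.iso o = D.scal z' * D.iso o') : z = z' ∧ o = o' := by
  have h1 := congrArg D.mult h
  rw [map_mul, map_mul, D.mult_iso, D.mult_iso, D.mult_scal, D.mult_scal, mul_one, mul_one] at h1
  obtain rfl := sq_inj_two h2 h1
  exact ⟨rfl, D.iso_injective (mul_left_cancel h)⟩

theorem exists_decomp_two (h2 : (2 : F) = 0) (g : GS f) : ∃ z o, g = D.scal z * D.iso o := by
  obtain ⟨t, ht⟩ := exists_sqrt h2 (D.mult g : F)
  have ht0 : t ≠ 0 := fun e => (D.mult g).ne_zero (by rw [← ht, e, mul_zero])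
  exact ⟨Units.mk0 t ht0, D.exists_scal_iso (Units.ext ht.symm)⟩

variable (k : ℕ)

/-- The values of the parity character. -/
noncomputable def chiFun (g : GS f) : Multiplicative (ZMod 2) := by
  classical
  exact if h2 : (2 : F) = 0 then dicksonHom D.nd D.hne4 (D.exists_decomp_two h2 g).choose_spec.choose
    else if (g.1 : Matrix ι ι F).det = (D.mult g : F) ^ k then 1 else Multiplicative.ofAdd 1

theorem chiFun_two (h2 : (2 : F) = 0) (z : Fˣ) (o : orth D.Q) :
    D.chiFun k (D.scal z * D.iso o) = dicksonHom D.nd D.hne4 o := by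
  rw [chiFun, dif_pos h2]
  congr 1
  exact ((D.scal_iso_unique h2
    (D.exists_decomp_two h2 (D.scal z * D.iso o)).choose_spec.choose_spec).2).symm

theorem chiFun_odd (h2 : (2 : F) ≠ 0) (g : GS f) :
    D.chiFun k g = 1 ↔ (g.1 : Matrix ι ι F).det = (D.mult g : F) ^ k := by
  rw [chiFun, dif_neg h2]
  split_ifs with h <;> simp [h]

variable {k} (hk : Fintype.card ι = 2 * k)

include hk in
theorem det_cases (g : GS f) : (g.1 : Matrix ι ι F).det = (D.mult g : F) ^ k ∨
    (g.1 : Matrix ι ι F).det = -(D.mult g : F) ^ k := by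
  have h := D.det_sq g
  rw [hk, two_mul, pow_add] at h
  exact mul_self_eq_mul_self_iff.1 h

include hk in
theorem chiFun_mul (g g' : GS f) : D.chiFun k (g * g') = D.chiFun k g * D.chiFun k g' := by
  by_cases h2 : (2 : F) = 0
  · obtain ⟨z, o, rfl⟩ := D.exists_decomp_two h2 g
    obtain ⟨z', o', rfl⟩ := D.exists_decomp_two h2 g'
    rw [show D.scal z * D.iso o * (D.scal z' * D.iso o') = D.scal (z * z') * D.iso (o * o') by
      rw [map_mul, map_mul, mul_assoc, mul_assoc, ← mul_assoc (D.iso o), ← (D.scal_comm z' (D.iso o)).eq,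
        mul_assoc], D.chiFun_two k h2, D.chiFun_two k h2, D.chiFun_two k h2, map_mul]
  · have key : ∀ a : GS f, D.chiFun k a = 1 ∨ D.chiFun k a = Multiplicative.ofAdd 1 := fun a =>
      mult_zmod2_cases _
    have hne : ∀ a : GS f, D.chiFun k a ≠ 1 →
        (a.1 : Matrix ι ι F).det = -(D.mult a : F) ^ k := fun a ha =>
      (D.det_cases hk a).resolve_left fun h => ha ((D.chiFun_odd k h2 a).2 h)
    have hmul : ((g * g').1 : Matrix ι ι F).det = (g.1 : Matrix ι ι F).det * (g'.1 : Matrix ι ι F).det := by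
      rw [Subgroup.coe_mul, Units.val_mul, Matrix.det_mul]
    rcases key g with hg | hg <;> rcases key g' with hg' | hg' <;> rw [hg, hg']
    · rw [mul_one, D.chiFun_odd k h2, hmul, (D.chiFun_odd k h2 g).1 hg, (D.chiFun_odd k h2 g').1 hg',
        map_mul, Units.val_mul, mul_pow]
    · rw [one_mul]
      refine (key _).resolve_left fun h => ?_
      have h1 := (D.chiFun_odd k h2 _).1 h
      rw [hmul, (D.chiFun_odd k h2 g).1 hg, hne g' (by rw [hg']; decide), map_mul, Units.val_mul,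
        mul_pow, mul_neg, neg_eq_iff_add_eq_zero, ← two_mul] at h1
      exact mul_ne_zero h2 (mul_ne_zero (pow_ne_zero _ (Units.ne_zero _))
        (pow_ne_zero _ (Units.ne_zero _))) h1
    · rw [mul_one]
      refine (key _).resolve_left fun h => ?_
      have h1 := (D.chiFun_odd k h2 _).1 h
      rw [hmul, (D.chiFun_odd k h2 g').1 hg', hne g (by rw [hg]; decide), map_mul, Units.val_mul,
        mul_pow, neg_mul, neg_eq_iff_add_eq_zero, ← two_mul] at h1
      exact mul_ne_zero h2 (mul_ne_zero (pow_ne_zero _ (Units.ne_zero _))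
        (pow_ne_zero _ (Units.ne_zero _))) h1
    · rw [show Multiplicative.ofAdd (1 : ZMod 2) * Multiplicative.ofAdd 1 = 1 from rfl,
        D.chiFun_odd k h2, hmul, hne g (by rw [hg]; decide), hne g' (by rw [hg']; decide), neg_mul_neg,
        map_mul, Units.val_mul, mul_pow]

/-- The parity character. -/
noncomputable def chi : GS f →* Multiplicative (ZMod 2) :=
  MonoidHom.mk' (D.chiFun k) (D.chiFun_mul hk)

/-- The similarities preserving each parity class. -/
noncomputable def rot : Subgroup (GS f) := (D.chi hk).ker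

theorem mem_rot {g : GS f} : g ∈ D.rot hk ↔ D.chi hk g = 1 := Iff.rfl

theorem chi_scal_iso_two (h2 : (2 : F) = 0) (z : Fˣ) (o : orth D.Q) :
    D.chi hk (D.scal z * D.iso o) = dicksonHom D.nd D.hne4 o := D.chiFun_two k h2 z o

theorem chi_odd (h2 : (2 : F) ≠ 0) (g : GS f) :
    D.chi hk g = 1 ↔ (g.1 : Matrix ι ι F).det = (D.mult g : F) ^ k := D.chiFun_odd k h2 g

theorem chi_scal (z : Fˣ) : D.chi hk (D.scal z) = 1 := by
  by_cases h2 : (2 : F) = 0
  · have := D.chi_scal_iso_two hk h2 z 1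
    rwa [map_one, mul_one, map_one] at this
  · rw [D.chi_odd hk h2, D.det_scal, hk, D.mult_scal, Units.val_mul, ← _root_.sq, ← pow_mul]

theorem scal_mem_rot (z : Fˣ) : D.scal z ∈ D.rot hk := D.chi_scal hk z

theorem chi_iso (o : orth D.Q) : D.chi hk (D.iso o) = dicksonHom D.nd D.hne4 o := by
  by_cases h2 : (2 : F) = 0
  · have := D.chi_scal_iso_two hk h2 1 o
    rwa [map_one, one_mul] at this
  · rcases mult_zmod2_cases (dicksonHom D.nd D.hne4 o) with h | h <;> rw [h]
    · rw [D.chi_odd hk h2, D.mult_iso, Units.val_one, one_pow, D.det_iso_iff h2]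
      exact Multiplicative.ofAdd.injective h
    · refine (mult_zmod2_cases _).resolve_left fun h1 => ?_
      rw [D.chi_odd hk h2, D.mult_iso, Units.val_one, one_pow, D.det_iso_iff h2] at h1
      exact absurd (h.symm.trans (congrArg Multiplicative.ofAdd h1)) (by decide)

theorem iso_mem_rot {o : orth D.Q} : D.iso o ∈ D.rot hk ↔ dickson D.Q o = 0 := by
  rw [D.mem_rot, D.chi_iso]
  exact ofAdd_eq_one

/-- Some isometry interchanges the classes. -/
theorem exists_not_rot : ∃ o : orth D.Q, D.chi hk (D.iso o) = Multiplicative.ofAdd 1 := by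
  obtain ⟨v, hv⟩ := D.exists_ne
  rw [D.hf] at hv
  exact ⟨orefl D.Q v, by rw [D.chi_iso, dicksonHom_orefl D.nd _ hv]⟩

theorem decomp_rot_two (h2 : (2 : F) = 0) {g : GS f} (hg : g ∈ D.rot hk) :
    ∃ z o, g = D.scal z * D.iso o ∧ dickson D.Q o = 0 := by
  obtain ⟨z, o, rfl⟩ := D.exists_decomp_two h2 g
  rw [D.mem_rot, D.chi_scal_iso_two hk h2] at hg
  exact ⟨z, o, rfl, ofAdd_eq_one.1 hg⟩

theorem decomp_rot_sq {g : GS f} (hg : g ∈ D.rot hk) {z : Fˣ} (hz : D.mult g = z * z) :
    ∃ o, g = D.scal z * D.iso o ∧ dickson D.Q o = 0 := by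
  obtain ⟨o, rfl⟩ := D.exists_scal_iso hz
  refine ⟨o, rfl, (D.iso_mem_rot hk).1 ?_⟩
  exact ((D.rot hk).mul_mem_cancel_left (D.scal_mem_rot hk z)).1 hg

/-- The parity is invariant under semisimilarities. -/
theorem chi_conjBy (S : AutPOmega.Semisim D.Q) {g g' : GS f}
    (h : ∀ v, (g'.1 : Matrix ι ι F) *ᵥ v = S.toAdd ((g.1 : Matrix ι ι F) *ᵥ S.toAdd.symm v)) :
    D.chi hk g' = D.chi hk g := by
  by_cases h2 : (2 : F) = 0
  · obtain ⟨z, o, rfl⟩ := D.exists_decomp_two h2 g
    have hg' : g' = D.scal (AutPSL.mapUnits S.τ z) * D.iso (S.conjO o) := by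
      refine D.ext_mulVec fun v => ?_
      rw [h, Subgroup.coe_mul, Units.val_mul, ← Matrix.mulVec_mulVec, Subgroup.coe_mul, Units.val_mul,
        ← Matrix.mulVec_mulVec, D.coe_scal_mulVec, D.coe_scal_mulVec, D.iso_apply, D.iso_apply,
        S.map_smul', S.conjO_apply]
      rfl
    rw [hg', D.chi_scal_iso_two hk h2, D.chi_scal_iso_two hk h2]
    have he : (dicksonHom D.nd D.hne4).comp S.conjO = dicksonHom D.nd D.hne4 := by
      refine MonoidHom.eq_of_eqOn_dense (closure_reflSet D.nd D.hne4) ?_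
      rintro _ ⟨v, hv, rfl⟩
      rw [MonoidHom.comp_apply, conjO_orefl, dicksonHom_orefl D.nd _ hv, dicksonHom_orefl D.nd _]
      rw [S.map_Q']
      exact mul_ne_zero S.c_ne ((EmbeddingLike.map_ne_zero_iff (f := S.τ)).2 hv)
    exact DFunLike.congr_fun he o
  · set A : Matrix ι ι F := (S.mat : Matrix ι ι F)
    have hA : ∀ v, A *ᵥ (fun i => S.τ (v i)) = S.toAdd v := fun v => S.mat_apply v
    have hB : (g'.1 : Matrix ι ι F) * A = A * (g.1 : Matrix ι ι F).map S.τ := by
      refine Matrix.ext_of_mulVec_single fun i => ?_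
      rw [← Matrix.mulVec_mulVec, ← Matrix.mulVec_mulVec,
        show (Pi.single i 1 : ι → F) = fun l => S.τ ((Pi.single i 1 : ι → F) l) from by
          funext l; by_cases hl : l = i
          · subst hl; simp
          · simp [hl],
        hA, OF.map_mulVec_comp, hA, h, AddEquiv.symm_apply_apply]
    have hdet : (g'.1 : Matrix ι ι F).det = S.τ (g.1 : Matrix ι ι F).det := by
      have h1 := congrArg Matrix.det hB
      have h3 : ((g.1 : Matrix ι ι F).map S.τ).det = S.τ (g.1 : Matrix ι ι F).det :=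
        (S.τ.toRingHom.map_det _).symm
      rw [Matrix.det_mul, Matrix.det_mul, mul_comm A.det, h3] at h1
      exact mul_right_cancel₀ ((Matrix.isUnit_iff_isUnit_det _).1 S.mat.isUnit).ne_zero h1
    have hmult : (D.mult g' : F) = S.τ (D.mult g) := by
      obtain ⟨v, hv⟩ := D.exists_ne
      refine mul_right_cancel₀ hv ((D.mult_spec g' v).symm.trans ?_)
      rw [h, D.hf, S.map_Q', ← D.hf, D.mult_spec, map_mul, D.hf (S.toAdd.symm v)]
      conv_rhs => rw [← S.toAdd.apply_symm_apply v, D.hf, S.map_Q']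
      ring
    have hiff : D.chi hk g' = 1 ↔ D.chi hk g = 1 := by
      rw [D.chi_odd hk h2, D.chi_odd hk h2, hdet, hmult, ← map_pow, S.τ.injective.eq_iff]
    rcases mult_zmod2_cases (D.chi hk g) with h1 | h1
    · rw [h1, hiff.2 h1]
    · rw [h1]; exact (mult_zmod2_cases _).resolve_left fun h0 =>
        absurd ((hiff.1 h0).symm.trans h1) (by decide)

theorem chi_mapGS (σ : F ≃+* F) (hσ : Fixes f σ) (g : GS f) :
    D.chi hk (D.mapGS σ hσ g) = D.chi hk g :=
  D.chi_conjBy hk (D.fieldS σ hσ) fun v => by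
    obtain ⟨u, rfl⟩ := (D.fieldS σ hσ).toAdd.surjective v
    rw [AddEquiv.symm_apply_apply, D.fieldS_apply, D.fieldS_apply, D.coe_mapGS,
      OF.map_mulVec_comp]

theorem rot_normal_map (h8 : AutPOmega.NoTriality D.Q) : ((D.rot hk).map D.conjQ).Normal :=
  ⟨by
    rintro _ ⟨g, hg, rfl⟩ β
    obtain ⟨S, rfl⟩ := D.exists_semisim h8 β
    obtain ⟨g', h, -, hg'⟩ := D.exists_conjBy S g
    exact ⟨g', by rw [SetLike.mem_coe, D.mem_rot, D.chi_conjBy hk S h]; exact hg, hg'.symm⟩⟩

theorem omegaG_le_rot : D.omegaG ≤ D.rot hk := by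
  rintro _ ⟨o, ho, rfl⟩
  rw [D.mem_rot, D.chi_iso]
  exact Abelianization.commutator_subset_ker _ ho

theorem inn_le_rot : Cfsg.Inn (Cfsg.POmega F f) ≤ (D.rot hk).map D.conjQ := by
  rw [D.inn_eq_map]; exact Subgroup.map_mono (D.omegaG_le_rot hk)

theorem rot_eq_inn_two (h2 : (2 : F) = 0) : (D.rot hk).map D.conjQ = Cfsg.Inn (Cfsg.POmega F f) := by
  refine le_antisymm ?_ (D.inn_le_rot hk)
  rintro _ ⟨g, hg, rfl⟩
  obtain ⟨z, o, rfl, ho⟩ := D.decomp_rot_two hk h2 hg
  rw [map_mul, D.conjQ_scal, one_mul, D.inn_eq_map]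
  exact ⟨_, ⟨o, (Orth52.mem_commutator_iff_two D.nd h2 (by have := D.h5'; omega) D.hne4 o).2 ho,
    rfl⟩, rfl⟩

end OF

section Emb

variable {F₀ : Type*} [Field F₀] [Finite F₀] {ι₀ : Type} [Fintype ι₀] [DecidableEq ι₀]
  {f₀ : (ι₀ → F₀) → F₀} {g : GS f} {σ : F ≃+* F} {j : F₀ →+* F}
  (D : OF f) (D₀ : OF f₀) (X : Rat g σ j f₀) {k : ℕ}

theorem det_emb (y : GS f₀) :
    ((emb D D₀ X y).1 : Matrix ι ι F).det = j (y.1 : Matrix ι₀ ι₀ F₀).det := by
  have h2 : Matrix.toLin' ((emb D D₀ X y).1 : Matrix ι ι F) =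
      (X.h : (ι₀ → F) →ₗ[F] (ι → F)) ∘ₗ Matrix.toLin' ((y.1 : Matrix ι₀ ι₀ F₀).map j) ∘ₗ
        (X.h.symm : (ι → F) →ₗ[F] (ι₀ → F)) := by
    refine LinearMap.ext fun v => ?_
    obtain ⟨u, rfl⟩ := X.h.surjective v
    simp [emb_apply]
  rw [← LinearMap.det_toLin' ((emb D D₀ X y).1 : Matrix ι ι F), h2, LinearMap.det_conj,
    LinearMap.det_toLin']
  exact (j.map_det _).symm

/-- The parity is preserved by base change. -/
theorem chi_emb (hk : Fintype.card ι = 2 * k) (hk₀ : Fintype.card ι₀ = 2 * k) (y : GS f₀) :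
    D.chi hk (emb D D₀ X y) = D₀.chi hk₀ y := by
  by_cases h2 : (2 : F) = 0
  · have h20 : (2 : F₀) = 0 := j.injective (by rw [map_ofNat, map_zero]; exact h2)
    obtain ⟨z, o, rfl⟩ := D₀.exists_decomp_two h20 y
    rw [D₀.chi_scal_iso_two hk₀ h20, map_mul, emb_scal, ← iso_embO, D.chi_scal_iso_two hk h2]
    exact congrArg Multiplicative.ofAdd (dickson_embO D D₀ X o)
  · have h20 : (2 : F₀) ≠ 0 := fun h => h2 (by rw [← map_ofNat j 2, h, map_zero])
    have hiff : D.chi hk (emb D D₀ X y) = 1 ↔ D₀.chi hk₀ y = 1 := by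
      rw [D.chi_odd hk h2, D₀.chi_odd hk₀ h20, det_emb, mult_emb]
      show j _ = j (D₀.mult y : F₀) ^ k ↔ _
      rw [← map_pow, j.injective.eq_iff]
    rcases mult_zmod2_cases (D₀.chi hk₀ y) with h1 | h1
    · rw [h1, hiff.2 h1]
    · rw [h1]; exact (mult_zmod2_cases _).resolve_left fun h0 =>
        absurd ((hiff.1 h0).symm.trans h1) (by decide)

theorem emb_mem_rot_iff (hk : Fintype.card ι = 2 * k) (hk₀ : Fintype.card ι₀ = 2 * k) (y : GS f₀) :
    emb D D₀ X y ∈ D.rot hk ↔ y ∈ D₀.rot hk₀ := by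
  rw [D.mem_rot, D₀.mem_rot, chi_emb D D₀ X hk hk₀]

include D₀ X in
/-- Elements with the same rational model have the same parity and are conjugate under rotations. -/
theorem exists_conj_rot (hk : Fintype.card ι = 2 * k) (hk₀ : Fintype.card ι₀ = 2 * k)
    (hσ : Fixes f σ) (hj : ∀ a, σ (j a) = j a) {g₂ : GS f} (X₂ : Rat g₂ σ j f₀) :
    D.chi hk g = D.chi hk g₂ ∧ ∃ a ∈ D.rot hk, D.conjQ g₂ * D.fieldQ σ hσ =
      D.conjQ a * (D.conjQ g * D.fieldQ σ hσ) * (D.conjQ a)⁻¹ := by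
  obtain ⟨a, ha, -⟩ := exists_conj D hσ j.injective X X₂
  refine ⟨?_, ?_⟩
  · have := congrArg (D.chi hk) ha
    rw [map_mul, map_mul, D.chi_mapGS, mul_comm (D.chi hk g₂)] at this
    exact mul_left_cancel this
  rcases mult_zmod2_cases (D.chi hk a) with h | h
  · exact ⟨a, h, conj_of_comm D hσ ha⟩
  · obtain ⟨o, ho⟩ := D₀.exists_not_rot hk₀
    set e := emb D D₀ X (D₀.iso o)
    refine ⟨a * e, ?_, conj_of_comm D hσ ?_⟩
    · rw [D.mem_rot, map_mul, h, chi_emb D D₀ X hk hk₀, ho]; rfl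
    · rw [map_mul, mul_assoc, emb_comm D D₀ hσ X hj, ← mul_assoc, ha, mul_assoc]

end Emb

end Cfsg.Agent.Lib.OrthField
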