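import Cfsg.Agent.Lib.OrthField.Spin
import Cfsg.Agent.Lib.AutPSp.Split
import Cfsg.Agent.Lib.AutPOmega.InnDiag

/-!
Squares in fixed fields, indices, standard coefficients.
-/

set_option autoImplicit false

namespace Cfsg.Agent.Lib.OrthField

open Module QuadraticMap Cfsg.Agent.Lib.Forms

variable {F : Type*} [Field F] {F₀ : Type*} [Field F₀] {σ : F ≃+* F} {j : F₀ →+* F}

theorem fixes_plus (m : ℕ) (σ : F ≃+* F) : Fixes (Cfsg.quadFormPlus m F) σ := fun v => by
  simp [Cfsg.quadFormPlus, map_sum]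

theorem fixes_odd (m : ℕ) (σ : F ≃+* F) : Fixes (Cfsg.quadFormOdd m F) σ := fun v => by
  simp [Cfsg.quadFormOdd, map_sum]

theorem fixes_minus (m : ℕ) {a b : F} {σ : F ≃+* F} (ha : σ a = a) (hb : σ b = b) :
    Fixes (Cfsg.quadFormMinus m F a b) σ := fun v => by
  simp [Cfsg.quadFormMinus, map_sum, ha, hb]

/-- Non-squares of the fixed field stay non-squares in odd degree. -/
theorem nonsq_of_odd {r : ℕ} (hr : orderOf σ = r) (hodd : Odd r) (h2 : (2 : F) ≠ 0)
    (hj : ∀ a, σ a = a ↔ a ∈ Set.range j) {c : F₀} (hc : ¬ IsSquare c) : ¬ IsSquare (j c) := by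
  rintro ⟨s, hs⟩
  apply hc
  have h1 : σ s * σ s = s * s := by rw [← map_mul, ← hs, (hj _).2 ⟨c, rfl⟩]
  rcases mul_self_eq_mul_self_iff.1 h1 with h | h
  · obtain ⟨t, ht⟩ := (hj s).1 h
    exact ⟨t, j.injective (by rw [map_mul, ht, hs])⟩
  · have hk : ∀ k : ℕ, (σ ^ k) s = (-1) ^ k * s := by
      intro k
      induction k with
      | zero => simp
      | succ k ih =>
        rw [pow_succ' σ k, RingAut.mul_apply, ih, map_mul, map_pow, map_neg, map_one, h, pow_succ]
        ring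
    have h3 := hk r
    rw [← hr, pow_orderOf_eq_one, RingAut.one_apply, hr, hodd.neg_one_pow, neg_one_mul] at h3
    have hs0 : s = 0 := (mul_eq_zero.1 (show (2 : F) * s = 0 by linear_combination h3)).resolve_left h2
    exact ⟨0, j.injective (by rw [hs, hs0, map_mul, map_zero, mul_zero])⟩

/-- In a quadratic extension every element of the fixed field is a square. -/
theorem sq_of_two [Finite F] (hσ : orderOf σ = 2)
    (hj : ∀ a, σ a = a ↔ a ∈ Set.range j) (c : F₀) : IsSquare (j c) := by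
  have := Fintype.ofFinite F
  obtain ⟨p, hchar⟩ := CharP.exists F
  obtain ⟨n, hp, hn⟩ := FiniteField.card F p
  have : Fact p.Prime := ⟨hp⟩
  rcases eq_or_ne c 0 with rfl | hc
  · rw [map_zero]; exact IsSquare.zero
  rcases hp.eq_two_or_odd' with h2 | hodd
  · subst h2
    exact FiniteField.isSquare_of_char_two (ringChar.eq F 2) _
  have hj0 : j c ≠ 0 := (map_ne_zero j).2 hc
  obtain ⟨z, hz⟩ := AutPSL.exists_tnorm_eq hσ two_pos (c := Units.mk0 (j c) hj0)
    (Units.ext ((hj _).2 ⟨c, rfl⟩))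
  have hz' : (z : F) * σ z = j c := by
    have := congrArg Units.val hz
    rw [AutPSL.tnorm_succ, AutPSL.tnorm_succ, AutPSL.tnorm_zero, map_one, mul_one] at this
    exact this
  obtain ⟨k, hk⟩ : Odd (p ^ ((n : ℕ) / 2)) := hodd.pow
  refine ⟨(z : F) ^ (k + 1), ?_⟩
  rw [← hz', AutPSL.apply_eq_pow hn hσ, hk]
  ring

section Index

variable {G : Type*} [Group G]

theorem relIndex_eq_two {L M : Subgroup G} {a : G} (ha : a ∈ M) (hL : a ∉ L)
    (h : ∀ b ∈ M, b ∈ L ∨ b * a ∈ L) : L.relIndex M = 2 := by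
  rw [Subgroup.relIndex_eq_two_iff]
  refine ⟨a, ha, fun b hb => ?_⟩
  rcases h b hb with h1 | h1
  · exact Or.inr ⟨h1, fun h2 => hL (by simpa using L.mul_mem (L.inv_mem h1) h2)⟩
  · exact Or.inl ⟨h1, fun h2 => hL (by simpa using L.mul_mem (L.inv_mem h2) h1)⟩

end Index

namespace OF

variable {ι : Type} [Fintype ι] [DecidableEq ι] {f : (ι → F) → F} (D : OF f) [Finite F]

theorem conjQ_range_normal (h8 : AutPOmega.NoTriality D.Q) : (D.conjQ).range.Normal :=
  ⟨by
    rintro _ ⟨g, rfl⟩ β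
    obtain ⟨S, rfl⟩ := D.exists_semisim h8 β
    obtain ⟨g', -, -, hg'⟩ := D.exists_conjBy S g
    exact ⟨g', hg'.symm⟩⟩

/-- The similarities as semisimilarities. -/
noncomputable def ofGSHom : GS f →* AutPOmega.Semisim D.Q where
  toFun := D.ofGS
  map_one' := AutPOmega.Semisim.ext' (AddEquiv.ext fun v => by
    show ((1 : GS f).1 : Matrix ι ι F).mulVec v = v
    simp) rfl (by
    show (D.mult 1 : F) = 1
    rw [map_one, Units.val_one])
  map_mul' g h := AutPOmega.Semisim.ext' (AddEquiv.ext fun v => by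
    show _ = (D.ofGS g).toAdd ((D.ofGS h).toAdd v)
    simp [D.ofGS_apply, Matrix.mulVec_mulVec]) rfl (by
    show (D.mult (g * h) : F) = (D.mult g : F) * (D.mult h : F)
    rw [map_mul, Units.val_mul])

theorem conjQ_eq (g : GS f) :
    D.conjQ g = AutPOmega.omegaAct D.nd D.h5' D.hf (D.ofGSHom g) := rfl

theorem mat_ofGS (g : GS f) : (D.ofGS g).mat = g.1 :=
  Units.ext (Matrix.ext_of_mulVec_single fun i => by
    rw [AutPOmega.Semisim.mat_mulVec_of_mem rfl]; rfl)

theorem map_conjQ_eq {K : Subgroup (AutPOmega.Semisim D.Q)}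
    (hK : K ≤ AutPOmega.Semisim.similitudes D.Q) :
    K.map (AutPOmega.omegaAct D.nd D.h5' D.hf) = (K.comap D.ofGSHom).map D.conjQ := by
  ext β
  constructor
  · rintro ⟨S, hS, rfl⟩
    set g : GS f := ⟨S.mat, AutPOmega.Semisim.mat_mem D.hf (hK hS)⟩
    have hg : D.ofGSHom g = S := AutPOmega.Semisim.ext'
      (AddEquiv.ext fun v => AutPOmega.Semisim.mat_mulVec_of_mem (hK hS) v)
      (AutPOmega.Semisim.mem_similitudes.1 (hK hS)).symm (congrArg Units.val (D.mult_eq (g := g)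
        (c := Units.mk0 S.c S.c_ne) fun v => by
          rw [AutPOmega.Semisim.mat_mulVec_of_mem (hK hS), D.hf, D.hf, S.map_Q',
            AutPOmega.Semisim.tau_apply_of_mem (hK hS), Units.val_mk0]))
    exact ⟨g, (show D.ofGSHom g ∈ K from hg.symm ▸ hS), by rw [conjQ_eq, hg]⟩
  · rintro ⟨g, hg, rfl⟩
    exact ⟨_, hg, (D.conjQ_eq g).symm⟩

end OF

end Cfsg.Agent.Lib.OrthField
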