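import Cfsg.Agent.Lib.OrthField.EvenPlus
import Cfsg.Agent.Lib.ChevClassical.D4
import Cfsg.Agent.Lib.ChevAut.OutBasic

/-!
The inner-diagonal automorphisms of the eight-dimensional plus group form a normal subgroup of all
automorphisms: they correspond to the inner and diagonal automorphisms of the Chevalley group of
type D4, whose automorphisms are known.
-/

set_option autoImplicit false
set_option maxRecDepth 100000

namespace Cfsg.Agent.Lib.OrthField.D4Plus

open Cfsg.Lie Cfsg.Agent.Lib Cfsg.Agent.Lib.Forms Cfsg.Agent.Lib.OrthOmega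
open Cfsg.Agent.Lib.ChevStructure (Rt Core)
open scoped Matrix MatrixGroups

universe u

/-- The certified core of D4. -/
noncomputable abbrev C : Core chevD4 := ChevStructure.Cert.D4.core

local notation "I" => ChevClassical.D4.I

/-- Weights of the coordinates in terms of four torus parameters and the multiplier. -/
def wt : I → Fin 5 → ℤ
  | .inl i => Pi.single i.castSucc 1
  | .inr i => Pi.single (Fin.last 4) 1 - Pi.single i.castSucc 1

/-- Weights of the fundamental roots. -/
def W : Fin 4 → Fin 5 → ℤ :=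
  ![![1, -1, 0, 0, 0], ![0, 1, -1, 0, 0], ![0, 0, 1, -1, 0], ![0, 0, 1, 1, -1]]

theorem gens_weights : ∀ r ∈ ChevClassical.D4.gens, ∀ a b : I, ∀ i : Fin 5,
    ChevClassical.D4.n1 r.val (ChevClassical.D4.rk a) (ChevClassical.D4.rk b) ≠ 0 →
      wt a i - wt b i = ∑ m : Fin 4, ChevStructure.Data.D4.fast.v r.val m.val * W m i := by
  decide +kernel

variable {F : Type u} [Field F]

/-- Monomials in the parameters. -/
def mono (u : Fin 5 → Fˣ) (w : Fin 5 → ℤ) : Fˣ := ∏ k, u k ^ w k

theorem mono_sub (u : Fin 5 → Fˣ) (w w' : Fin 5 → ℤ) :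
    mono u w = mono u (fun k => w k - w' k) * mono u w' := by
  rw [mono, mono, mono, ← Finset.prod_mul_distrib]
  exact Finset.prod_congr rfl fun k _ => by rw [← zpow_add, sub_add_cancel]

theorem mono_sum (u : Fin 5 → Fˣ) {w : Fin 5 → ℤ} (e : Fin 4 → ℤ)
    (h : ∀ k, w k = ∑ m, e m * W m k) :
    mono u w = ∏ m, mono u (W m) ^ e m := by
  simp only [mono, ← Finset.prod_zpow, ← zpow_mul]
  rw [Finset.prod_comm]
  refine Finset.prod_congr rfl fun k _ => ?_
  rw [h k]
  simp only [Fin.sum_univ_four, Fin.prod_univ_four, zpow_add, mul_comm]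

/-- The fundamental values of a torus element. -/
def chi (u : Fin 5 → Fˣ) : Fin chevD4.rank → Fˣ := fun m => mono u (W m)

theorem chr_gens (u : Fin 5 → Fˣ) {r : Rt chevD4} (hr : r ∈ ChevClassical.D4.gens) (a b : I)
    (h : ChevClassical.D4.N r 1 a b ≠ 0) :
    mono u (wt a) = C.chr F (chi u) r * mono u (wt b) := by
  rw [mono_sub u (wt a) (wt b)]
  congr 1
  rw [mono_sum u (fun m => ChevStructure.Data.D4.fast.v r.val m.val)
    fun k => gens_weights r hr a b k h]
  rfl

/-- Torus parameters with given fundamental values. -/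
def par (χ : Fin chevD4.rank → Fˣ) : Fin 5 → Fˣ :=
  fun k => ![χ (0 : Fin 4) * χ (1 : Fin 4) * χ (2 : Fin 4), χ (1 : Fin 4) * χ (2 : Fin 4),
    χ (2 : Fin 4), 1, χ (2 : Fin 4) / χ (3 : Fin 4)] k

theorem chi_par (χ : Fin chevD4.rank → Fˣ) : chi (par χ) = χ := by
  funext m
  show mono (par χ) (W m) = χ m
  revert m
  show ∀ m : Fin 4, mono (par χ) (W m) = χ m
  intro m
  fin_cases m <;> simp [mono, par, W, Fin.prod_univ_five, div_eq_mul_inv, mul_comm, mul_left_comm]

variable [Finite F]

/-- The plus form in dimension eight. -/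
noncomputable abbrev D8 (F : Type u) [Field F] [Finite F] : OF (Cfsg.quadFormPlus 4 F) :=
  DPlus (F := F) (m := 4) le_rfl

theorem exists_torus (u : Fin 5 → Fˣ) :
    ∃ T : GS (Cfsg.quadFormPlus 4 F), (D8 F).mult T = u (Fin.last 4) ∧
      ∀ v, (T.1 : Matrix I I F) *ᵥ v = fun l => (mono u (wt l) : F) * v l := by
  obtain ⟨T, hm, hT⟩ := exists_plusT (F := F) (m := 4) le_rfl (fun i => u i.castSucc) (u (Fin.last 4))
  refine ⟨T, hm, fun v => ?_⟩
  rw [hT]
  funext l
  rcases l with i | i <;> fin_cases i <;> simp [mono, wt, Fin.prod_univ_five, mul_comm]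

/-- The comparison homomorphism. -/
noncomputable def theta : Cfsg.Omega F (Cfsg.quadFormPlus 4 F) →* ↥(chevD4.group F) :=
  ((ChevClassical.psiHom (ChevClassical.D4.hf (F := F))).comp
    (Cfsg.Omega F (Cfsg.quadFormPlus 4 F)).subtype).codRestrict _ fun s => by
      rw [← ChevClassical.D4.roots.map_gen (ChevClassical.D4.hf (F := F)) C
        ChevClassical.D4.closure_gens, ← ChevClassical.D4.omega_eq]
      exact ⟨s.1, s.2, rfl⟩

theorem theta_surjective : Function.Surjective (theta (F := F)) := by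
  rintro ⟨g, hg⟩
  rw [← ChevClassical.D4.roots.map_gen (ChevClassical.D4.hf (F := F)) C
    ChevClassical.D4.closure_gens, ← ChevClassical.D4.omega_eq] at hg
  obtain ⟨s, hs, rfl⟩ := hg
  exact ⟨⟨s, hs⟩, rfl⟩

theorem omega_perfect :
    commutator ↥(Cfsg.Omega F (Cfsg.quadFormPlus 4 F)) = ⊤ := by
  have hE := EG_perfect (D8 F).nd (D8 F).h5'
  set e := (omegaEquiv (D8 F).Q (D8 F).hf).trans
    (MulEquiv.subgroupCongr (commutator_eq_EG (D8 F).nd (D8 F).h5'))
  have h1 : commutator ↥(EG (D8 F).Q) = ⊤ := by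
    refine Subgroup.map_injective (EG (D8 F).Q).subtype_injective ?_
    rw [commutator_def, Subgroup.map_commutator, ← MonoidHom.range_eq_map, Subgroup.range_subtype]
    exact hE
  refine Subgroup.map_injective (f := e.toMonoidHom) e.injective ?_
  rw [map_commutator_equiv, h1, Subgroup.map_top_of_surjective e.toMonoidHom e.surjective]

theorem ker_theta : (theta (F := F)).ker =
    Subgroup.center (Cfsg.Omega F (Cfsg.quadFormPlus 4 F)) := by
  set Z := Subgroup.center (Cfsg.Omega F (Cfsg.quadFormPlus 4 F))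
  have := isSimpleGroup_pOmega (D8 F).Q (D8 F).nd (D8 F).h5' (D8 F).hf
  obtain ⟨e⟩ := ChevClassical.D4.main (F := F)
  have hfin : Finite ↥(chevD4.group F) := Finite.of_equiv _ e.symm.toEquiv
  have hcard : Nat.card (theta (F := F)).ker = Nat.card Z := by
    have h1 := (Subgroup.card_eq_card_quotient_mul_card_subgroup (theta (F := F)).ker).symm
    rw [Nat.card_congr (QuotientGroup.quotientKerEquivOfSurjective _ theta_surjective).toEquiv,
      Nat.card_congr e.toEquiv,
      Subgroup.card_eq_card_quotient_mul_card_subgroup Z] at h1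
    exact Nat.eq_of_mul_eq_mul_left Nat.card_pos h1
  rcases ((Subgroup.Normal.map (inferInstance : (theta (F := F)).ker.Normal) (QuotientGroup.mk' Z)
    (QuotientGroup.mk'_surjective Z))).eq_bot_or_eq_top with h | h
  · rw [Subgroup.map_eq_bot_iff, QuotientGroup.ker_mk'] at h
    exact Subgroup.eq_of_le_of_card_ge h hcard.ge
  · exfalso
    have hsup : (theta (F := F)).ker ⊔ Z = ⊤ := by
      have := congrArg (Subgroup.comap (QuotientGroup.mk' Z)) h
      rwa [Subgroup.comap_map_eq, QuotientGroup.ker_mk', Subgroup.comap_top] at this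
    have hker : (theta (F := F)).ker = ⊤ := by
      rw [← top_le_iff, ← omega_perfect, commutator_def, Subgroup.commutator_le]
      intro a _ b _
      obtain ⟨k, hk, z, hz, rfl⟩ := Subgroup.mem_sup_of_normal_left.1 (hsup.symm ▸ Subgroup.mem_top a)
      obtain ⟨k', hk', z', hz', rfl⟩ :=
        Subgroup.mem_sup_of_normal_left.1 (hsup.symm ▸ Subgroup.mem_top b)
      rw [MonoidHom.mem_ker] at hk hk' ⊢
      rw [map_commutatorElement, map_mul, map_mul, hk, hk', one_mul, one_mul,
        ← map_commutatorElement, commutatorElement_eq_one_iff_mul_comm.2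
          (Subgroup.mem_center_iff.1 hz' z), map_one]
    have : Subsingleton ↥(chevD4.group F) := ⟨fun x y => by
      obtain ⟨a, rfl⟩ := theta_surjective x
      obtain ⟨b, rfl⟩ := theta_surjective y
      rw [MonoidHom.mem_ker.1 (hker.symm ▸ Subgroup.mem_top a),
        MonoidHom.mem_ker.1 (hker.symm ▸ Subgroup.mem_top b)]⟩
    obtain ⟨x, y, hxy⟩ := exists_pair_ne (Cfsg.POmega F (Cfsg.quadFormPlus 4 F))
    exact hxy (e.symm.injective (Subsingleton.elim _ _))

/-- The isomorphism, explicit on classes. -/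
noncomputable def iso8 : ↥(chevD4.group F) ≃* Cfsg.POmega F (Cfsg.quadFormPlus 4 F) :=
  ((QuotientGroup.quotientMulEquivOfEq ker_theta.symm).trans
    (QuotientGroup.quotientKerEquivOfSurjective _ theta_surjective)).symm

theorem iso8_theta (s : Cfsg.Omega F (Cfsg.quadFormPlus 4 F)) :
    iso8 (theta s) = QuotientGroup.mk s :=
  (MulEquiv.symm_apply_eq _).2 rfl

/-- A root element inside `Omega`. -/
noncomputable def elt8 (r : Rt chevD4) (t : F) : Cfsg.Omega F (Cfsg.quadFormPlus 4 F) :=
  ⟨ChevClassical.D4.roots.elt ChevClassical.D4.hf r t, ChevClassical.D4.elt_mem_omega r t⟩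

theorem theta_elt {r : Rt chevD4} (hr : r ∈ ChevClassical.D4.gens) (t : F) :
    theta (elt8 r t) = ChevAut.GX C F r t := by
  refine ChevAut.eq_GX C F ?_
  show ChevClassical.D4.cert.psi (ChevClassical.D4.roots.mat F r t) = _
  rw [ChevClassical.D4.roots.psi_mat C F r hr t, ← C.xI_eq_x]

theorem closure_elt8 :
    Subgroup.closure {s : Cfsg.Omega F (Cfsg.quadFormPlus 4 F) |
      ∃ r ∈ ChevClassical.D4.gens, ∃ t : F, s = elt8 r t} = ⊤ := by
  refine Subgroup.map_injective (Cfsg.Omega F (Cfsg.quadFormPlus 4 F)).subtype_injective ?_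
  rw [MonoidHom.map_closure, ← MonoidHom.range_eq_map, Subgroup.range_subtype]
  conv_rhs => rw [ChevClassical.D4.omega_eq]
  show Subgroup.closure _ = Subgroup.closure _
  congr 1
  ext g
  constructor
  · rintro ⟨_, ⟨r, hr, t, rfl⟩, rfl⟩
    exact ⟨r, hr, t, rfl⟩
  · rintro ⟨r, hr, t, rfl⟩
    exact ⟨_, ⟨r, hr, t, rfl⟩, rfl⟩

variable [Fintype F]

/-- A diagonal automorphism is induced by a torus similarity. -/
theorem congr_diag (u : Fin 5 → Fˣ) {T : GS (Cfsg.quadFormPlus 4 F)}
    (hT : ∀ v, (T.1 : Matrix I I F) *ᵥ v = fun l => (mono u (wt l) : F) * v l) :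
    MulAut.congr iso8 (ChevAut.diagHom C (chi u)) = (D8 F).conjQ T := by
  have hM : (T.1 : Matrix I I F) = Matrix.diagonal fun l => (mono u (wt l) : F) :=
    Matrix.ext_of_mulVec_single fun i => by
      rw [hT]; funext l; rw [Matrix.mulVec_diagonal]
  have hgen : ∀ r ∈ ChevClassical.D4.gens, ∀ t : F,
      MulAut.congr iso8 (ChevAut.diagHom C (chi u)) (QuotientGroup.mk (elt8 r t)) =
        (D8 F).conjQ T (QuotientGroup.mk (elt8 r t)) := by
    intro r hr t
    set c : F := (C.chr F (chi u) r : F)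
    have h1 : MulAut.congr iso8 (ChevAut.diagHom C (chi u)) (QuotientGroup.mk (elt8 r t)) =
        QuotientGroup.mk (elt8 r (c * t)) := by
      show iso8 (ChevAut.diagHom C (chi u) (iso8.symm (QuotientGroup.mk (elt8 r t)))) = _
      rw [← iso8_theta, MulEquiv.symm_apply_apply, theta_elt hr, ← iso8_theta, theta_elt hr]
      exact congrArg iso8 (ChevAut.diagAut_GX' C (chi u) r t)
    rw [h1]
    refine (((D8 F).induced_iff' T _).2 rfl (elt8 r t) (elt8 r (c * t)) ?_).symm
    show ChevClassical.D4.roots.mat F r (c * t) =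
      (T.1 : Matrix I I F) * (ChevClassical.D4.roots.mat F r t).map id *
        ((T.1⁻¹ : GL I F) : Matrix I I F)
    rw [Matrix.map_id]
    have key : ChevClassical.D4.roots.mat F r (c * t) * (T.1 : Matrix I I F) =
        (T.1 : Matrix I I F) * ChevClassical.D4.roots.mat F r t := by
      rw [hM]
      ext a b
      rw [Matrix.mul_diagonal, Matrix.diagonal_mul]
      have e0 : ChevClassical.D4.roots.N r 0 a b = if a = b then 1 else 0 :=
        ChevClassical.D4.rk_eq a b
      have e2 : ChevClassical.D4.roots.N r 2 a b = 0 := rfl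
      simp only [ChevClassical.RootData.mat, Matrix.of_apply, Finset.sum_range_succ,
        Finset.sum_range_zero, zero_add, pow_zero, one_mul, pow_one, e0, e2, Int.cast_zero,
        mul_zero, add_zero]
      by_cases hn : ChevClassical.D4.roots.N r 1 a b = 0
      · rw [hn]
        rcases eq_or_ne a b with rfl | hab
        · simp
        · simp [hab]
      · have hw : (mono u (wt a) : F) = c * (mono u (wt b) : F) := by
          rw [← Units.val_mul]
          exact congrArg Units.val (chr_gens u hr a b hn)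
        rcases eq_or_ne a b with rfl | hab
        · have hc : c = 1 := mul_right_cancel₀ (Units.ne_zero _) (hw.symm.trans (one_mul _).symm)
          rw [hc]; simp; ring
        · simp [hab, hw]; ring
    rw [← key, Matrix.mul_assoc]
    simp
  refine MulEquiv.ext fun y => ?_
  obtain ⟨s, rfl⟩ := QuotientGroup.mk_surjective y
  have hs : s ∈ Subgroup.closure {s : Cfsg.Omega F (Cfsg.quadFormPlus 4 F) |
      ∃ r ∈ ChevClassical.D4.gens, ∃ t : F, s = elt8 r t} := by
    rw [closure_elt8 (F := F)]; exact Subgroup.mem_top s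
  induction hs using Subgroup.closure_induction with
  | mem x hx => obtain ⟨r, hr, t, rfl⟩ := hx; exact hgen r hr t
  | one => rw [QuotientGroup.mk_one, map_one, map_one]
  | mul a b _ _ ha hb => rw [QuotientGroup.mk_mul, map_mul, map_mul, ha, hb]
  | inv a _ ha => rw [QuotientGroup.mk_inv, map_inv, map_inv, ha]

/-- The inner and diagonal automorphisms of the Chevalley group. -/
noncomputable def innDiag : Subgroup (MulAut ↥(chevD4.group F)) :=
  Cfsg.Inn ↥(chevD4.group F) ⊔ (ChevAut.diagHom C (F := F)).range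

theorem innDiag_normal : (innDiag (F := F)).Normal := by
  refine ⟨fun a ha θ => ?_⟩
  obtain ⟨x, χ, π, φ, σ, -, hφ, rfl⟩ := ChevAut.exists_decomp (F := F) C
    (C.commOK_mild ChevStructure.mildD4) (ChevAut.table_all chevD4 (by simp))
    (ChevAut.headsOK_all chevD4 (by simp)) (by simp) θ
  have hmem : ∀ g : MulAut ↥(chevD4.group F), (∀ χ', g * ChevAut.diagHom C χ' * g⁻¹ ∈ innDiag) →
      ∀ a ∈ innDiag, g * a * g⁻¹ ∈ innDiag := by
    intro g hg a ha
    refine (sup_le ?_ ?_ : innDiag ≤ innDiag.comap (MulAut.conj g).toMonoidHom) ha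
    · rintro _ ⟨y, rfl⟩
      refine Subgroup.mem_sup_left ⟨g y, MulEquiv.ext fun z => ?_⟩
      show g y * z * (g y)⁻¹ = g (y * g.symm z * y⁻¹)
      simp
    · rintro _ ⟨χ', rfl⟩
      exact hg χ'
  have hI : ∀ g ∈ innDiag (F := F), ∀ a ∈ innDiag, g * a * g⁻¹ ∈ innDiag :=
    fun g hg a ha => mul_mem (mul_mem hg ha) (inv_mem hg)
  have h1 := hmem _ (fun χ' => Subgroup.mem_sup_right ⟨fun k => Units.map σ.toRingHom.toMonoidHom (χ' k),
    (eq_mul_inv_of_mul_eq (ChevAut.field_diag C σ χ').symm)⟩) a ha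
  have h2 := hmem φ (fun χ' => Subgroup.mem_sup_right ⟨ChevAut.graphChar C π χ',
    (eq_mul_inv_of_mul_eq (ChevAut.graph_diag C hφ χ').symm)⟩) _ h1
  have h3 := hI _ (Subgroup.mem_sup_left (show MulAut.conj x ∈ Cfsg.Inn _ from ⟨x, rfl⟩) |> fun h =>
    mul_mem h (Subgroup.mem_sup_right (show ChevAut.diagHom C χ ∈ (ChevAut.diagHom C (F := F)).range from ⟨χ, rfl⟩))) _ h2
  have e : MulAut.conj x * ChevAut.diagHom C χ *
      (φ * (ChevAut.fieldHom C σ * a * (ChevAut.fieldHom C σ)⁻¹) * φ⁻¹) *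
      (MulAut.conj x * ChevAut.diagHom C χ)⁻¹ =
      MulAut.conj x * ChevAut.diagHom C χ * φ * ChevAut.fieldHom C σ * a *
        (MulAut.conj x * ChevAut.diagHom C χ * φ * ChevAut.fieldHom C σ)⁻¹ := by group
  rwa [e] at h3

theorem map_innDiag (h2 : (2 : F) ≠ 0) :
    (innDiag (F := F)).map (MulAut.congr iso8).toMonoidHom =
      ((D8 F).rot (hkPlus 4)).map (D8 F).conjQ := by
  refine le_antisymm ?_ ?_
  · rw [innDiag, Subgroup.map_sup, map_inn]
    refine sup_le ((D8 F).inn_le_rot _) ?_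
    rintro _ ⟨_, ⟨χ, rfl⟩, rfl⟩
    obtain ⟨T, hm, hT⟩ := exists_torus (par χ)
    refine ⟨T, ?_, ?_⟩
    · refine plusT_mem_rot le_rfl h2 (a := fun i => (par χ) i.castSucc) (fun v => ?_) hm
      rw [hT]
      funext l
      rcases l with i | i <;> fin_cases i <;> simp [mono, wt, Fin.prod_univ_five, mul_comm]
    · rw [← congr_diag (par χ) hT, chi_par]; rfl
  · have hT : ∀ (u : Fin 5 → Fˣ) (T : GS (Cfsg.quadFormPlus 4 F)),
        (∀ v, (T.1 : Matrix I I F) *ᵥ v = fun l => (mono u (wt l) : F) * v l) →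
        (D8 F).conjQ T ∈ (innDiag (F := F)).map (MulAut.congr iso8).toMonoidHom := fun u T h =>
      ⟨_, Subgroup.mem_sup_right ⟨chi u, rfl⟩, congr_diag u h⟩
    have hΩ : ∀ o ∈ commutator (orth (D8 F).Q),
        (D8 F).conjQ ((D8 F).iso o) ∈ (innDiag (F := F)).map (MulAut.congr iso8).toMonoidHom := by
      intro o ho
      refine Subgroup.map_mono (le_sup_left : Cfsg.Inn _ ≤ innDiag) ?_
      rw [map_inn, (D8 F).inn_eq_map]
      exact ⟨_, ⟨o, ho, rfl⟩, rfl⟩
    rintro _ ⟨g, hg, rfl⟩
    set u₁ : Fin 5 → Fˣ := Pi.mulSingle (Fin.last 4) ((D8 F).mult g) with hu₁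
    obtain ⟨T₁, hm₁, hT₁⟩ := exists_torus u₁
    obtain ⟨o, ho⟩ := (D8 F).exists_iso (g := g * T₁⁻¹) (by
      rw [map_mul, map_inv, hm₁, hu₁, Pi.mulSingle_eq_same, mul_inv_cancel])
    have hT₁r : T₁ ∈ (D8 F).rot (hkPlus 4) :=
      plusT_mem_rot le_rfl h2 (a := fun i => u₁ i.castSucc) (fun v => by
        rw [hT₁]
        funext l
        rcases l with i | i <;> fin_cases i <;> simp [mono, wt, Fin.prod_univ_five, mul_comm]) hm₁
    have hod : dickson (D8 F).Q o = 0 := ((D8 F).iso_mem_rot (hkPlus 4)).1 (by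
      rw [ho]; exact mul_mem hg (inv_mem hT₁r))
    suffices (D8 F).conjQ ((D8 F).iso o) ∈ (innDiag (F := F)).map (MulAut.congr iso8).toMonoidHom by
      rw [ho, map_mul, map_inv] at this
      simpa using mul_mem this (hT u₁ T₁ hT₁)
    by_cases hsp : (D8 F).spin h2 o = 1
    · exact hΩ o (((D8 F).mem_commutator h2 o).2 ⟨hod, hsp⟩)
    obtain ⟨ν, hν⟩ := exists_nonsq h2
    have hν0 : ν ≠ 0 := fun e => hν (e ▸ IsSquare.zero)
    set u₂ : Fin 5 → Fˣ := Pi.mulSingle 0 (Units.mk0 ν hν0) with hu₂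
    set t : Fin 4 → Fˣ := Pi.mulSingle 0 (Units.mk0 ν hν0) with ht
    set o₂ : orth (D8 F).Q := AutPOmega.diagPlus 4 t with ho₂
    have hd2 : dickson (D8 F).Q o₂ = 0 := by
      rw [ho₂, ht, AutPOmega.diagPlus_single, (D8 F).dickson_mul', (D8 F).dickson_orefl',
        (D8 F).dickson_orefl']
      · rfl
      all_goals simp [AutPOmega.qPlus_pairVec, hν0]
    have hs2 : (D8 F).spin h2 o₂ ≠ 1 := fun h => hν (by
      have := (spin_diagPlus 4 le_rfl h2 t).1 h
      simpa [ht, Fin.prod_univ_four] using this)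
    have h3 := hΩ (o * o₂) (((D8 F).mem_commutator h2 _).2 ⟨by
      rw [(D8 F).dickson_mul', hod, hd2, add_zero], by
      show (D8 F).spin h2 _ = 1
      rw [map_mul, (Int.units_eq_one_or _).resolve_left hsp, (Int.units_eq_one_or _).resolve_left hs2]
      rfl⟩)
    have h4 := hT u₂ ((D8 F).iso o₂) fun v => by
      rw [OF.iso_apply]
      funext l
      rcases l with i | i <;> fin_cases i <;>
        simp [ho₂, ht, hu₂, mono, wt, Fin.prod_univ_five, AutPOmega.diagPlus_apply_inl,
          AutPOmega.diagPlus_apply_inr]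
    rw [map_mul, map_mul] at h3
    simpa using mul_mem h3 (inv_mem h4)

theorem rot_normal : (((D8 F).rot (hkPlus 4)).map (D8 F).conjQ).Normal := by
  by_cases h2 : (2 : F) = 0
  · rw [(D8 F).rot_eq_inn_two (hkPlus 4) h2]
    exact inferInstanceAs (MulAut.conj : Cfsg.POmega F (Cfsg.quadFormPlus 4 F) →* _).range.Normal
  · rw [← map_innDiag h2]
    exact Subgroup.Normal.map innDiag_normal _ (MulAut.congr iso8).surjective

end Cfsg.Agent.Lib.OrthField.D4Plus
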