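import Cfsg.Agent.Lib.OrthField.SplitTwo

/-!
Field and graph-field classes of the plus-type groups.
-/

set_option autoImplicit false

namespace Cfsg.Agent.Lib.OrthField

open Module QuadraticMap Cfsg.Agent.Lib.Forms Cfsg.Agent.Lib.OrthStd Cfsg.Agent.Lib.OrthOmega
open scoped Matrix

variable {F : Type*} [Field F] [Finite F]

theorem involution_unique {σ τ : F ≃+* F} (hσ : orderOf σ = 2) (hτ : orderOf τ = 2) : σ = τ := by
  have := Fintype.ofFinite F
  obtain ⟨p, hchar⟩ := CharP.exists F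
  obtain ⟨n, hp, hn⟩ := FiniteField.card F p
  have : Fact p.Prime := ⟨hp⟩
  exact RingEquiv.ext fun x =>
    (AutPSL.apply_eq_pow hn hσ x).trans (AutPSL.apply_eq_pow hn hτ x).symm

section Coset

variable {ι : Type} [Fintype ι] [DecidableEq ι] {f : (ι → F) → F} (D : OF f) {k : ℕ}
  (hk : Fintype.card ι = 2 * k)

/-- Every automorphism is a similarity followed by a field automorphism. -/
theorem exists_conjQ_fieldQ (h8 : AutPOmega.NoTriality D.Q) (hfix : ∀ τ, Fixes f τ)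
    (β : MulAut (Cfsg.POmega F f)) :
    ∃ (A : GS f) (τ : F ≃+* F), β = D.conjQ A * D.fieldQ τ (hfix τ) := by
  obtain ⟨S, rfl⟩ := D.exists_semisim h8 β
  obtain ⟨c, hc⟩ := S.isSemisimilarityPair D.hf
  have hmem : S.mat ∈ GS f := ⟨c, fun v => by
    obtain ⟨u, rfl⟩ : ∃ u : ι → F, (fun i => S.τ (u i)) = v :=
      ⟨fun i => S.τ.symm (v i), funext fun i => S.τ.apply_symm_apply _⟩
    rw [hc, hfix S.τ]⟩
  refine ⟨⟨S.mat, hmem⟩, S.τ, D.toPG'.injective ?_⟩
  rw [map_mul, D.toPG_conjQ, D.toPG_fieldQ, MulEquiv.apply_symm_apply, ← AutPOmega.Semisim.aut_mul]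
  exact D.aut_congr fun v => by
    show S.toAdd v = (D.ofGS _).toAdd ((D.fieldS S.τ _).toAdd v)
    rw [D.fieldS_apply, D.ofGS_apply]
    exact (S.mat_apply v).symm

/-- The coset of a field automorphism with given parity is invariant under all automorphisms. -/
theorem conj_parity (h8 : AutPOmega.NoTriality D.Q) (hfix : ∀ τ, Fixes f τ) {σ : F ≃+* F}
    (g : GS f) (β : MulAut (Cfsg.POmega F f)) :
    ∃ g' : GS f, D.chi hk g' = D.chi hk g ∧
      β * (D.conjQ g * D.fieldQ σ (hfix σ)) * β⁻¹ = D.conjQ g' * D.fieldQ σ (hfix σ) := by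
  obtain ⟨A, τ, rfl⟩ := exists_conjQ_fieldQ D h8 hfix β
  refine ⟨A * D.mapGS τ (hfix τ) g * (D.mapGS σ (hfix σ) A)⁻¹, ?_, ?_⟩
  · rw [map_mul, map_mul, map_inv, D.chi_mapGS, D.chi_mapGS, mul_comm (D.chi hk A), mul_assoc,
      mul_inv_cancel, mul_one]
  · have e1 : D.fieldQ σ (hfix σ) * D.conjQ A⁻¹ =
        D.conjQ (D.mapGS σ (hfix σ) A)⁻¹ * D.fieldQ σ (hfix σ) := by
      rw [D.fieldQ_conjQ, map_inv]
    have e2 : D.fieldQ τ (hfix τ) * D.fieldQ σ (hfix σ) =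
        D.fieldQ σ (hfix σ) * D.fieldQ τ (hfix τ) := by
      rw [D.fieldQ_mul, D.fieldQ_mul]
      exact D.fieldQ_congr (AutPSL.fieldAut_comm τ σ) _ _
    calc D.conjQ A * D.fieldQ τ (hfix τ) * (D.conjQ g * D.fieldQ σ (hfix σ)) *
          (D.conjQ A * D.fieldQ τ (hfix τ))⁻¹
        = D.conjQ A * (D.fieldQ τ (hfix τ) * D.conjQ g) *
            (D.fieldQ σ (hfix σ) * (D.fieldQ τ (hfix τ))⁻¹) * D.conjQ A⁻¹ := by
          rw [map_inv]; group
      _ = D.conjQ A * D.conjQ (D.mapGS τ (hfix τ) g) *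
            (D.fieldQ τ (hfix τ) * D.fieldQ σ (hfix σ)) * (D.fieldQ τ (hfix τ))⁻¹ * D.conjQ A⁻¹ := by
          rw [D.fieldQ_conjQ]; group
      _ = D.conjQ A * D.conjQ (D.mapGS τ (hfix τ) g) * (D.fieldQ σ (hfix σ) * D.conjQ A⁻¹) := by
          rw [e2]; group
      _ = _ := by rw [e1, ← map_mul, ← mul_assoc, ← map_mul]

end Coset

section Plus

variable {n : ℕ} (hm : 4 ≤ n + 1)

/-- Every involutory graph-field automorphism is conjugate under rotations to the standard one. -/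
theorem graphField_std (hm5 : 5 ≤ n + 1)
    {x : MulAut (Cfsg.POmega F (Cfsg.quadFormPlus (n + 1) F))}
    (hx : Cfsg.IsGraphFieldAutClassPOmegaPlus (n + 1) x) (hx2 : orderOf x = 2) :
    ∃ σ : F ≃+* F, orderOf σ = 2 ∧ ∃ a ∈ (DPlus (F := F) hm).rot (hkPlus (n + 1)),
      x = (DPlus (F := F) hm).conjQ a *
        ((DPlus (F := F) hm).conjQ (g0 hm) *
          (DPlus (F := F) hm).fieldQ σ (fixes_plus (n + 1) σ)) *
        ((DPlus (F := F) hm).conjQ a)⁻¹ := by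
  obtain ⟨α, γ, φ, σ, v, R, hσ1, hv, hfix, hR, hγ, hφ, hα⟩ := hx
  obtain ⟨g, hg, hchi, -⟩ := exists_refl_gs (DPlus (F := F) hm) (hkPlus (n + 1))
    (fixes_plus (n + 1) σ) hv hR hfix
  subst hg
  rw [((DPlus (F := F) hm).fieldAutOf_iff σ (fixes_plus (n + 1) σ) φ).1 hφ,
    ((DPlus (F := F) hm).induced_iff' g γ).1 hγ] at hα
  have hx' : x = α⁻¹ * ((DPlus (F := F) hm).conjQ g *
      (DPlus (F := F) hm).fieldQ σ (fixes_plus (n + 1) σ)) * α⁻¹⁻¹ := by
    rw [← hα]; group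
  obtain ⟨g', hc, hg'⟩ := conj_parity (DPlus (F := F) hm) (hkPlus (n + 1))
    (AutPOmega.noTriality_plus hm5) (fixes_plus (n + 1)) g α⁻¹
  rw [hg'] at hx'
  have hpow : ((DPlus (F := F) hm).conjQ g' *
      (DPlus (F := F) hm).fieldQ σ (fixes_plus (n + 1) σ)) ^ 2 = 1 := by
    rw [← hx', ← hx2, pow_orderOf_eq_one]
  haveI : Fact (Nat.Prime 2) := ⟨Nat.prime_two⟩
  have hσ : orderOf σ = 2 :=
    orderOf_eq_prime (sigma_pow_eq_one (DPlus (F := F) hm) (fixes_plus (n + 1) σ) hpow) hσ1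
  rcases plus_conj_cases hm hσ Nat.prime_two hpow with ⟨c, -⟩ | ⟨-, -, a, ha, e⟩
  · rw [hc, hchi] at c
    exact absurd c (by decide)
  · exact ⟨σ, hσ, a, ha, hx'.trans e⟩

end Plus

section Count

variable {n : ℕ} (hm : 4 ≤ n + 1) {F₀ : Type*} [Field F₀] [Finite F₀] {σ : F ≃+* F} {j : F₀ →+* F}
  (hσ : orderOf σ = 2) (hj : ∀ x, σ x = x ↔ x ∈ Set.range j) {a₀ b₀ : F₀} (hab₀ : Aniso a₀ b₀)
  {r : F} (hr : σ r ≠ r) (hσr : σ (σ r) = r) (ha : j a₀ = -(r + σ r)) (hb : j b₀ = r * σ r)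

include hσ hj in
/-- Splitting numbers of the standard graph-field element. -/
theorem g0_split (hn : 3 ≤ n) (h20 : (2 : F₀) ≠ 0) {q₀ : ℕ} (hq : Nat.card F₀ = q₀) :
    (Odd (n + 1) ∧ q₀ % 4 = 1 →
      (splitL (DPlus (F := F) hm) (DMinus hn hab₀) (g0Rat hm σ j hr hσr ha hb)
        (hkMinus n)).relIndex ((DPlus (F := F) hm).rot (hkPlus (n + 1))) = 4) ∧
    (¬ (Odd (n + 1) ∧ q₀ % 4 = 1) →
      (splitL (DPlus (F := F) hm) (DMinus hn hab₀) (g0Rat hm σ j hr hσr ha hb)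
        (hkMinus n)).relIndex ((DPlus (F := F) hm).rot (hkPlus (n + 1))) = 2) := by
  have h2 : (2 : F) ≠ 0 := fun h => h20 (j.injective (by rw [map_ofNat, map_zero]; exact h))
  obtain ⟨ν, hν⟩ := exists_nonsq h20
  have hν0 : ν ≠ 0 := fun e => hν (e ▸ IsSquare.zero)
  obtain ⟨w, hw⟩ := exists_norm_eq hσ hj hν0
  obtain ⟨s, hs⟩ := sq_of_two hσ hj ν
  have hs0 : s ≠ 0 := fun e => (map_ne_zero j).2 hν0 (by rw [hs, e, mul_zero])
  set c₀ : F₀ˣ := Units.mk0 ν hν0 with hc₀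
  set c : Fˣ := Units.map (j : F₀ →* F) c₀ with hc
  set a : Fin (n + 1) → Fˣ := Fin.cons w fun _ => c with hadef
  obtain ⟨T, hTm, hT⟩ := exists_plusT (F := F) hm a c
  have hTr := plusT_mem_rot hm h2 hT hTm
  have hσc : σ (c : F) = (c : F) := (hj _).2 ⟨ν, rfl⟩
  have hσw : σ (σ (w : F)) = (w : F) := by
    have : σ ^ 2 = 1 := by rw [← hσ]; exact pow_orderOf_eq_one σ
    exact (RingEquiv.congr_fun (pow_two σ).symm _).trans (RingEquiv.congr_fun this _)
  have hσw' : ((w⁻¹ : Fˣ) : F) * (c : F) = σ w := by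
    rw [Units.val_inv_eq_inv_val, hc]
    show (w : F)⁻¹ * j ν = _
    rw [← hw, inv_mul_cancel_left₀ w.ne_zero]
  have hcomm : T * g0 hm = g0 hm * (DPlus (F := F) hm).mapGS σ (fixes_plus (n + 1) σ) T := by
    refine (DPlus (F := F) hm).ext_mulVec fun v => ?_
    obtain ⟨u, rfl⟩ := ((DPlus (F := F) hm).fieldS σ (fixes_plus (n + 1) σ)).toAdd.surjective v
    rw [OF.fieldS_apply]
    simp only [Subgroup.coe_mul, Units.val_mul, ← Matrix.mulVec_mulVec, OF.coe_mapGS,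
      OF.map_mulVec_comp, g0_apply, hT]
    funext l
    rcases l with i | i <;> refine Fin.cases ?_ ?_ i <;> (try intro i)
    · simp only [hadef, swap0, Equiv.swap_apply_left, Sum.elim_inl, Sum.elim_inr, Fin.cons_zero,
        map_mul]
      rw [← map_mul σ _ (c : F), hσw', hσw]
    · simp [hadef, swap0, Equiv.swap_apply_of_ne_of_ne, hσc]
    · simp only [hadef, swap0, Equiv.swap_apply_right, Sum.elim_inl, Sum.elim_inr, Fin.cons_zero,
        map_mul]
      rw [hσw']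
    · simp [hadef, swap0, Equiv.swap_apply_of_ne_of_ne, hσc]
  obtain ⟨y₁, hy₁, hyT, hym⟩ := exists_emb_of_comm (DPlus (F := F) hm) (DMinus hn hab₀)
    (g0Rat hm σ j hr hσr ha hb) (hkPlus (n + 1)) (hkMinus n) (fixes_plus (n + 1) σ) hj hcomm
    (c := c₀) hTm hTr
  set su : Fˣ := Units.mk0 s hs0 with hsu
  have hdec := plusT_decomp hm h2 hT (s := su) (Units.ext (by rw [hc]; exact hs.symm))
  obtain ⟨hne, heq⟩ := splitL_index_two (DPlus (F := F) hm) (DMinus hn hab₀)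
    (g0Rat hm σ j hr hσr ha hb) (hkPlus (n + 1)) (hkMinus n) h2 (sq_of_two hσ hj)
    (exists_mult_plus hm) hν hy₁ (congrArg Units.val hym) (hyT.trans hdec)
  have hwns : ¬ IsSquare (w : F) := fun h => hν ((isSquare_iff_norm hσ h20 hj w.ne_zero hw).1 h)
  have hspin : (DPlus (F := F) hm).spin h2 (AutPOmega.diagPlus (n + 1) fun i => a i / su) = 1 ↔
      Odd (n + 1) ∧ q₀ % 4 = 1 := by
    rw [spin_diagPlus (n + 1) hm h2, Fin.prod_univ_succ]
    have e : ((a 0 / su : Fˣ) : F) * ∏ i : Fin n, ((a i.succ / su : Fˣ) : F) =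
        (w : F) * s ^ (n + 1) * (j ν)⁻¹ := by
      simp only [hadef, Fin.cons_zero, Fin.cons_succ, Units.val_div_eq_div_val, Finset.prod_const,
        Finset.card_univ, Fintype.card_fin, hsu, Units.val_mk0, hc, hc₀]
      show _ / s * (j ν / s) ^ n = _
      rw [hs, mul_div_assoc, div_self hs0, mul_one]
      field_simp
      ring
    rw [e, isSquare_mul_iff (inv_ne_zero ((map_ne_zero j).2 hν0)) (sq_of_two hσ hj ν).inv]
    constructor
    · intro h
      by_contra hc'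
      exact hwns ((isSquare_mul_iff (pow_ne_zero _ hs0)
        ((sqrt_facts hσ h20 hj hν hq hs.symm (n + 1)).2 hc')).1 h)
    · intro h
      refine isSquare_mul_of_not h2 hwns fun h' => ?_
      exact (sqrt_facts hσ h20 hj hν hq hs.symm (n + 1)).1 h' h
  exact ⟨fun h => heq (hspin.2 h), fun h => hne fun h' => h (hspin.1 h')⟩

end Count

end Cfsg.Agent.Lib.OrthField
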