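import Cfsg.Agent.Lib.OrthField.Transport

/-!
Field automorphisms of the minus-type groups, moved to a form with fixed coefficients.
-/

set_option autoImplicit false

namespace Cfsg.Agent.Lib.OrthField

open Module QuadraticMap Cfsg.Agent.Lib.Forms Cfsg.Agent.Lib.OrthStd Cfsg.Agent.Lib.OrthOmega
open scoped Matrix

theorem map_inn {G H : Type*} [Group G] [Group H] (e : G ≃* H) :
    (Cfsg.Inn G).map (MulAut.congr e).toMonoidHom = Cfsg.Inn H := by
  show (MulAut.conj : G →* MulAut G).range.map _ = (MulAut.conj : H →* MulAut H).range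
  rw [MonoidHom.map_range,
    show (MulAut.congr e).toMonoidHom.comp (MulAut.conj : G →* MulAut G) =
      (MulAut.conj : H →* MulAut H).comp e.toMonoidHom from
        MonoidHom.ext fun g => MulEquiv.ext fun h => by
          show e (g * e.symm h * g⁻¹) = e g * h * (e g)⁻¹
          simp,
    MonoidHom.range_comp, MonoidHom.range_eq_top.2 e.surjective, ← MonoidHom.range_eq_map]

variable {F : Type*} [Field F] [Finite F] {n : ℕ}

/-- An anisotropic binary change of coefficients gives an isometry of the minus forms. -/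
theorem exists_minus_isometry {a b a' b' : F} (hab : Aniso a b) (hab' : Aniso a' b') :
    ∃ M : GL ((Fin n ⊕ Fin n) ⊕ Fin 2) F, ∀ v,
      Cfsg.quadFormMinus n F a' b' ((M : Matrix _ _ F) *ᵥ v) = Cfsg.quadFormMinus n F a b v := by
  obtain ⟨e, he⟩ := exists_bin_equiv hab hab'
  refine ⟨glEquiv.symm (((minusSplit n F).trans
    ((LinearEquiv.refl F _).prodCongr e)).trans (minusSplit n F).symm), fun v => ?_⟩
  rw [← glEquiv_apply, MulEquiv.apply_symm_apply, quadFormMinus_eq, quadFormMinus_eq]
  show ((qPlus (F := F) n).prod (qBin a' b')) ((minusSplit n F v).1, e (minusSplit n F v).2) =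
    ((qPlus (F := F) n).prod (qBin a b)) (minusSplit n F v)
  rw [QuadraticMap.prod_apply, QuadraticMap.prod_apply, he]

/-- The standard position of a field automorphism of prime order. -/
theorem minus_setup (hn : 3 ≤ n) {a b : F} (hab : Aniso a b)
    {x : MulAut (Cfsg.POmega F (Cfsg.quadFormMinus n F a b))}
    (hx : Cfsg.IsFieldAutClassPOmegaMinus n x) {r : ℕ} (hxr : orderOf x = r) :
    ∃ (a' b' : F) (hab' : Aniso a' b') (σ : F ≃+* F)
      (hσ : Fixes (Cfsg.quadFormMinus n F a' b') σ)
      (E : MulAut (Cfsg.POmega F (Cfsg.quadFormMinus n F a b)) ≃*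
        MulAut (Cfsg.POmega F (Cfsg.quadFormMinus n F a' b'))),
      σ a' = a' ∧ σ b' = b' ∧ orderOf σ = r ∧
      (Cfsg.inndiagPOmegaMinus n F a b).map E.toMonoidHom =
        ((DMinus hn hab').rot (hkMinus n)).map (DMinus hn hab').conjQ ∧
      (Cfsg.Inn (Cfsg.POmega F (Cfsg.quadFormMinus n F a b))).map E.toMonoidHom =
        Cfsg.Inn (Cfsg.POmega F (Cfsg.quadFormMinus n F a' b')) ∧
      E x = (DMinus hn hab').conjQ 1 * (DMinus hn hab').fieldQ σ hσ := by
  obtain ⟨a', b', ψ, σ, hab', -, ha, hb, hφ⟩ := hx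
  have hσ := fixes_minus n (F := F) ha hb
  set D := DMinus hn hab
  set D' := DMinus hn hab'
  have hE : MulAut.congr ψ x = D'.fieldQ σ hσ := (D'.fieldAutOf_iff σ hσ _).1 hφ
  refine ⟨a', b', hab', σ, hσ, MulAut.congr ψ, ha, hb, ?_, ?_, map_inn ψ, ?_⟩
  · rw [← D'.orderOf_fieldQ σ hσ, ← hE, MulEquiv.orderOf_eq, hxr]
  · obtain ⟨M, hM⟩ := exists_minus_isometry (n := n) hab hab'
    set θ : MulAut (Cfsg.POmega F (Cfsg.quadFormMinus n F a' b')) :=
      (pomegaCongr M hM).symm.trans ψ with hθ
    have hcomp : (MulAut.congr ψ).toMonoidHom =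
        (MulAut.conj θ).toMonoidHom.comp (MulAut.congr (pomegaCongr M hM)).toMonoidHom :=
      MonoidHom.ext fun β => MulEquiv.ext fun y => by
        show ψ (β (ψ.symm y)) = θ ((pomegaCongr M hM) (β ((pomegaCongr M hM).symm (θ.symm y))))
        simp [hθ]
    haveI := D'.rot_normal_map (hkMinus n) (AutPOmega.noTriality_minus hab')
    rw [inndiagMinus_eq hn hab, hcomp, ← Subgroup.map_map,
      congr_rot M hM D D' (hkMinus n)]
    exact Subgroup.Normal.conj_smul_eq_self θ _
  · rw [map_one, one_mul, hE]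

end Cfsg.Agent.Lib.OrthField
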