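import Cfsg.Agent.Lib.OrthField.Common
import Cfsg.Agent.Lib.Orth52.Classify

/-!
Field automorphisms of the odd-dimensional orthogonal groups.
-/

set_option autoImplicit false

namespace Cfsg.Agent.Lib.OrthField

open Module QuadraticMap Cfsg.Agent.Lib.Forms Cfsg.Agent.Lib.OrthStd Cfsg.Agent.Lib.OrthOmega
open scoped Matrix

variable {F : Type*} [Field F] {m : ℕ}

/-- The odd form. -/
noncomputable def DOdd (hm : 3 ≤ m) (h2 : (2 : F) ≠ 0) : OF (Cfsg.quadFormOdd m F) where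
  Q := qOddC m F
  hf := quadFormOdd_eq m
  nd := qOddC_nondeg m h2
  h7 := by simp; omega

variable (hm : 3 ≤ m) (h2 : (2 : F) ≠ 0)

theorem noTriality_DOdd : AutPOmega.NoTriality (DOdd (F := F) hm h2).Q :=
  AutPOmega.noTriality_odd m

theorem inndiagOdd_eq [Finite F] :
    Cfsg.inndiagPOmegaOdd m F = (DOdd (F := F) hm h2).conjQ.range := by
  rw [AutPOmega.inndiagPOmegaOdd_eq m h2 (DOdd (F := F) hm h2).h5']
  refine ((DOdd (F := F) hm h2).map_conjQ_eq (K := AutPOmega.Semisim.similitudes _) le_rfl).trans ?_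
  rw [MonoidHom.range_eq_map]
  congr 1
  exact eq_top_iff.2 fun g _ => rfl

include hm h2 in
/-- All forms in odd dimension are similar to the standard one. -/
theorem exists_odd_model [Finite F] {Q₀ : QuadraticForm F (Unit ⊕ (Fin m ⊕ Fin m) → F)}
    (hQ : Nondeg Q₀) :
    ∃ (e : (Unit ⊕ (Fin m ⊕ Fin m) → F) ≃ₗ[F] (Unit ⊕ (Fin m ⊕ Fin m) → F)) (l : F),
      l ≠ 0 ∧ ∀ v, Q₀ (e v) = l * Cfsg.quadFormOdd m F v := by
  have hn : finrank F (Unit ⊕ (Fin m ⊕ Fin m) → F) = 2 * m + 1 := by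
    rw [finrank_fun]; simp; omega
  rcases classify Q₀ hQ with ⟨k, hk, -⟩ | ⟨k, c, hc, -, hk, ⟨I⟩⟩ | ⟨k, a, b, -, hk, -⟩
  · omega
  · obtain rfl : k = m := by omega
    obtain ⟨s, hs⟩ := Orth52.exists_similar_qPlus (F := F) k hc
    refine ⟨((oddSplit k F).trans (s.prodCongr (LinearEquiv.refl F F))).trans I.toLinearEquiv.symm,
      c, hc, fun v => ?_⟩
    rw [LinearEquiv.trans_apply, Orth52.equiv_apply I, quadFormOdd_eq]
    show ((qPlus (F := F) k).prod (qOne c)) (s (oddSplit k F v).1, (oddSplit k F v).2) =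
      c * ((qPlus (F := F) k).prod (qOne 1)) (oddSplit k F v)
    rw [QuadraticMap.prod_apply, QuadraticMap.prod_apply, hs, qOne_apply, qOne_apply]
    ring
  · omega

/-- Two elements of order dividing `r` in the coset of a field automorphism are conjugate. -/
theorem odd_conj [Finite F] {σ : F ≃+* F} {r : ℕ} (hr : orderOf σ = r) (hr0 : 0 < r)
    (g : GS (Cfsg.quadFormOdd m F))
    (hg : ((DOdd hm h2).conjQ g * (DOdd hm h2).fieldQ σ (fixes_odd m σ)) ^ r = 1) :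
    ∃ k, (DOdd hm h2).conjQ g * (DOdd hm h2).fieldQ σ (fixes_odd m σ) =
      (DOdd hm h2).conjQ k * (DOdd hm h2).fieldQ σ (fixes_odd m σ) *
        ((DOdd hm h2).conjQ k)⁻¹ := by
  set D := DOdd (F := F) hm h2
  set j := (AutPSL.fixField σ).subtype
  have hj : ∀ a, σ a = a ↔ a ∈ Set.range j := fun a =>
    ⟨fun h => ⟨⟨a, h⟩, rfl⟩, fun ⟨y, hy⟩ => hy ▸ y.2⟩
  have h20 : (2 : AutPSL.fixField σ) ≠ 0 := fun h => h2 (by
    have := congrArg j h
    rwa [map_ofNat, map_zero] at this)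
  obtain ⟨g', Q₀, hg', hQ₀, ⟨X⟩⟩ := exists_rat D (fixes_odd m σ) hr hr0 hj hg
  obtain ⟨e, l, hl, he⟩ := exists_odd_model hm h20 hQ₀
  let X₂ : Rat g' σ j (Cfsg.quadFormOdd m (AutPSL.fixField σ)) :=
    X.change (fun a => (hj _).2 ⟨a, rfl⟩) _ e l hl he
  let X₁ : Rat (1 : GS (Cfsg.quadFormOdd m F)) σ j (Cfsg.quadFormOdd m (AutPSL.fixField σ)) :=
    { h := LinearEquiv.refl F _
      w := 1
      hw := one_ne_zero
      fix' := fun u => by simp
      val := fun v => by simp [Cfsg.quadFormOdd, map_sum] }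
  obtain ⟨k, hk, -⟩ := exists_conj D (fixes_odd m σ) j.injective X₁ X₂
  refine ⟨k, ?_⟩
  have := conj_of_comm D (fixes_odd m σ) hk
  rwa [map_one, one_mul, hg'] at this

/-- The standard rational structure. -/
noncomputable def oddRat {F₀ : Type*} [Field F₀] {σ : F ≃+* F} (j : F₀ →+* F) :
    Rat (1 : GS (Cfsg.quadFormOdd m F)) σ j (Cfsg.quadFormOdd m F₀) where
  h := LinearEquiv.refl F _
  w := 1
  hw := one_ne_zero
  fix' u := by simp
  val v := by simp [Cfsg.quadFormOdd, map_sum]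

/-- In odd dimension a similarity is a scalar times a rotation. -/
theorem exists_rot [Finite F] (g : GS (Cfsg.quadFormOdd m F)) :
    ∃ z o, g = (DOdd hm h2).scal z * (DOdd hm h2).iso o ∧ dickson (DOdd hm h2).Q o = 0 := by
  set D := DOdd (F := F) hm h2
  set d : Fˣ := Matrix.GeneralLinearGroup.det g.1
  set c := D.mult g
  have hd : d * d = c ^ (2 * m + 1) := by
    refine Units.ext ?_
    rw [Units.val_mul, Units.val_pow_eq_pow_val]
    refine (D.det_sq g).trans ?_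
    congr 1
    simp; omega
  have hz : c = (d / c ^ m) * (d / c ^ m) := by
    rw [div_mul_div_comm, hd, ← pow_add, two_mul, pow_succ, mul_div_cancel_left]
  obtain ⟨o, ho⟩ := D.exists_scal_iso (z := d / c ^ m) hz
  refine ⟨d / c ^ m, o, ho, (D.det_iso_iff h2 o).1 ?_⟩
  have h1 := congrArg (fun a : GS (Cfsg.quadFormOdd m F) => (a.1 : Matrix (Unit ⊕ (Fin m ⊕ Fin m)) (Unit ⊕ (Fin m ⊕ Fin m)) F).det) ho
  simp only [Subgroup.coe_mul, Units.val_mul, Matrix.det_mul, D.det_scal] at h1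
  have h3 : (((d / c ^ m : Fˣ) : F)) ^ Fintype.card (Unit ⊕ (Fin m ⊕ Fin m)) = (d : F) := by
    rw [← Units.val_pow_eq_pow_val]
    congr 1
    rw [show Fintype.card (Unit ⊕ (Fin m ⊕ Fin m)) = 2 * m + 1 by simp; omega, pow_succ, pow_mul,
      _root_.sq, ← hz, mul_div_cancel]
  rw [h3, show (g.1 : Matrix (Unit ⊕ (Fin m ⊕ Fin m)) (Unit ⊕ (Fin m ⊕ Fin m)) F).det = (d : F) from rfl] at h1
  exact (mul_eq_left₀ d.ne_zero).1 h1.symm

theorem isometry_scal_unique [Finite F] {o o' : orth (DOdd (F := F) hm h2).Q} {z : Fˣ}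
    (h : (DOdd hm h2).iso o = (DOdd hm h2).scal z * (DOdd hm h2).iso o')
    (ho : dickson (DOdd hm h2).Q o = 0) (ho' : dickson (DOdd hm h2).Q o' = 0) : o = o' := by
  have h1 := congrArg (DOdd hm h2).mult h
  rw [map_mul, (DOdd hm h2).mult_iso, (DOdd hm h2).mult_iso, (DOdd hm h2).mult_scal, mul_one] at h1
  have h3 := congrArg (fun a : GS (Cfsg.quadFormOdd m F) => (a.1 : Matrix (Unit ⊕ (Fin m ⊕ Fin m)) (Unit ⊕ (Fin m ⊕ Fin m)) F).det) h
  simp only [Subgroup.coe_mul, Units.val_mul, Matrix.det_mul, (DOdd hm h2).det_scal,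
    ((DOdd hm h2).det_iso_iff h2 o).2 ho, ((DOdd hm h2).det_iso_iff h2 o').2 ho', mul_one] at h3
  rw [show Fintype.card (Unit ⊕ (Fin m ⊕ Fin m)) = 2 * m + 1 by simp; omega, pow_succ, pow_mul,
    _root_.sq, ← Units.val_mul, ← h1, Units.val_one, one_pow, one_mul] at h3
  have hz : z = 1 := Units.ext h3.symm
  rw [hz, map_one, one_mul] at h
  exact (DOdd hm h2).iso_injective h

section Split

variable [Finite F] {F₀ : Type*} [Field F₀] [Finite F₀] {σ : F ≃+* F} {j : F₀ →+* F}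
  (h20 : (2 : F₀) ≠ 0)

/-- The subgroup whose index counts the classes. -/
noncomputable def oddL : Subgroup (GS (Cfsg.quadFormOdd m F)) :=
  (DOdd hm h2).omegaG ⊔ (⊤ : Subgroup (GS (Cfsg.quadFormOdd m F₀))).map
    (emb (DOdd hm h2) (DOdd hm h20) (oddRat (σ := σ) j)) ⊔ (DOdd hm h2).scal.range

theorem oddL_index_one (hns : ∀ c : F₀, ¬ IsSquare c → ¬ IsSquare (j c)) :
    (oddL hm h2 (σ := σ) (j := j) h20).relIndex ⊤ = 1 := by
  set D := DOdd (F := F) hm h2
  set D₀ := DOdd (F := F₀) hm h20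
  set X := oddRat (m := m) (σ := σ) j
  rw [Subgroup.relIndex_eq_one]
  intro g _
  obtain ⟨z, o, rfl, ho⟩ := exists_rot hm h2 g
  refine mul_mem (Subgroup.mem_sup_right ⟨z, rfl⟩) ?_
  by_cases hs : D.spin h2 o = 1
  · exact Subgroup.mem_sup_left (Subgroup.mem_sup_left ⟨o, (D.mem_commutator h2 o).2 ⟨ho, hs⟩, rfl⟩)
  obtain ⟨o₁, ho₁, hs₁⟩ := exists_spin_embO D D₀ X h2 h20 hns
  have h1 : o * embO D D₀ X o₁ ∈ commutator (orth D.Q) := by
    refine (D.mem_commutator h2 _).2 ⟨by rw [D.dickson_mul', ho, dickson_embO, ho₁, add_zero], ?_⟩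
    show D.spin h2 _ = 1
    rw [map_mul, (Int.units_eq_one_or _).resolve_left hs, (Int.units_eq_one_or _).resolve_left hs₁]
    rfl
  rw [show D.iso o = D.iso (o * embO D D₀ X o₁) * (D.iso (embO D D₀ X o₁))⁻¹ by
    rw [map_mul, mul_inv_cancel_right]]
  refine Subgroup.mem_sup_left (mul_mem (Subgroup.mem_sup_left ⟨_, h1, rfl⟩) (inv_mem ?_))
  exact Subgroup.mem_sup_right ⟨D₀.iso o₁, trivial, (iso_embO D D₀ X o₁).symm⟩

theorem oddL_index_two (hsq : ∀ c : F₀, IsSquare (j c)) :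
    (oddL hm h2 (σ := σ) (j := j) h20).relIndex ⊤ = 2 := by
  set D := DOdd (F := F) hm h2
  set D₀ := DOdd (F := F₀) hm h20
  set X := oddRat (m := m) (σ := σ) j
  obtain ⟨o₁, ho₁, hs₁⟩ := D.exists_spin_neg h2
  haveI : (D.scal.range).Normal := ⟨by
    rintro _ ⟨z, rfl⟩ g
    exact ⟨z, by rw [← (D.scal_comm z g).eq, mul_inv_cancel_right]⟩⟩
  set Good := D.scal.range ⊔ (commutator (orth D.Q)).map D.iso
  have hle : oddL hm h2 (σ := σ) (j := j) h20 ≤ Good := by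
    refine sup_le (sup_le le_sup_right ?_) le_sup_left
    rintro _ ⟨y, -, rfl⟩
    obtain ⟨z, o, rfl, ho⟩ := exists_rot hm h20 y
    rw [map_mul, emb_scal, ← iso_embO]
    refine mul_mem (Subgroup.mem_sup_left ⟨_, rfl⟩) (Subgroup.mem_sup_right ⟨_, ?_, rfl⟩)
    exact (D.mem_commutator h2 _).2 ⟨by rw [dickson_embO, ho], spin_embO D D₀ X h2 hsq ho⟩
  refine relIndex_eq_two (a := D.iso o₁) trivial (fun hmem => hs₁ ?_) fun g _ => ?_
  · obtain ⟨_, ⟨z, rfl⟩, _, ⟨o, ho, rfl⟩, he⟩ := Subgroup.mem_sup_of_normal_left.1 (hle hmem)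
    obtain ⟨hd, hs⟩ := (D.mem_commutator h2 o).1 ho
    rw [isometry_scal_unique hm h2 he.symm ho₁ hd]
    exact hs
  · obtain ⟨z, o, rfl, ho⟩ := exists_rot hm h2 g
    have hz : D.scal z ∈ oddL hm h2 (σ := σ) (j := j) h20 := Subgroup.mem_sup_right ⟨z, rfl⟩
    by_cases hs : D.spin h2 o = 1
    · exact Or.inl (mul_mem hz (Subgroup.mem_sup_left
        (Subgroup.mem_sup_left ⟨o, (D.mem_commutator h2 o).2 ⟨ho, hs⟩, rfl⟩)))
    · refine Or.inr ?_
      rw [mul_assoc, ← map_mul]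
      refine mul_mem hz (Subgroup.mem_sup_left (Subgroup.mem_sup_left ⟨_, ?_, rfl⟩))
      refine (D.mem_commutator h2 _).2 ⟨by rw [D.dickson_mul', ho, ho₁, add_zero], ?_⟩
      show D.spin h2 _ = 1
      rw [map_mul, (Int.units_eq_one_or _).resolve_left hs,
        (Int.units_eq_one_or _).resolve_left hs₁]
      rfl

end Split

end Cfsg.Agent.Lib.OrthField
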