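import Cfsg.Agent.Lib.OrthField.EvenPlus

/-!
Splitting numbers of the field automorphisms of order two of the plus-type groups.
-/

set_option autoImplicit false

namespace Cfsg.Agent.Lib.OrthField

open Module QuadraticMap Cfsg.Agent.Lib.Forms Cfsg.Agent.Lib.OrthStd Cfsg.Agent.Lib.OrthOmega
open scoped Matrix

variable {F : Type*} [Field F] [Finite F] {m : ℕ} (hm : 4 ≤ m) {F₀ : Type*} [Field F₀] [Finite F₀]
  {σ : F ≃+* F} {j : F₀ →+* F} (hσ : orderOf σ = 2) (hj : ∀ x, σ x = x ↔ x ∈ Set.range j)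

include hσ hj in
theorem plus_split (h20 : (2 : F₀) ≠ 0) {q₀ : ℕ} (hq : Nat.card F₀ = q₀) :
    (Odd m ∧ q₀ % 4 = 1 →
      (splitL (DPlus (F := F) hm) (DPlus (F := F₀) hm) (plusRat (σ := σ) j)
        (hkPlus m)).relIndex ((DPlus (F := F) hm).rot (hkPlus m)) = 2) ∧
    (¬ (Odd m ∧ q₀ % 4 = 1) →
      (splitL (DPlus (F := F) hm) (DPlus (F := F₀) hm) (plusRat (σ := σ) j)
        (hkPlus m)).relIndex ((DPlus (F := F) hm).rot (hkPlus m)) = 4) := by
  have h2 : (2 : F) ≠ 0 := fun h => h20 (j.injective (by rw [map_ofNat, map_zero]; exact h))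
  obtain ⟨ν, hν⟩ := exists_nonsq h20
  have hν0 : ν ≠ 0 := fun e => hν (e ▸ IsSquare.zero)
  obtain ⟨s, hs⟩ := sq_of_two hσ hj ν
  have hs0 : s ≠ 0 := fun e => (map_ne_zero j).2 hν0 (by rw [hs, e, mul_zero])
  set c₀ : F₀ˣ := Units.mk0 ν hν0 with hc₀
  set c : Fˣ := Units.map (j : F₀ →* F) c₀ with hc
  obtain ⟨T, hTm, hT⟩ := exists_plusT (F := F) hm (fun _ => c) c
  have hTr := plusT_mem_rot hm h2 hT hTm
  haveI : Nonempty (Fin m ⊕ Fin m) := ⟨.inl ⟨0, by omega⟩⟩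
  have hσc : σ (c : F) = (c : F) := (hj _).2 ⟨ν, rfl⟩
  have hcomm : T * 1 = 1 * (DPlus (F := F) hm).mapGS σ (fixes_plus m σ) T := by
    rw [mul_one, one_mul]
    refine (DPlus (F := F) hm).ext_mulVec fun v => ?_
    obtain ⟨u, rfl⟩ := ((DPlus (F := F) hm).fieldS σ (fixes_plus m σ)).toAdd.surjective v
    simp only [OF.fieldS_apply, OF.coe_mapGS, OF.map_mulVec_comp, hT]
    funext l
    rcases l with i | i <;> simp [hσc]
  obtain ⟨y₁, hy₁, hyT, hym⟩ := exists_emb_of_comm (DPlus (F := F) hm) (DPlus (F := F₀) hm)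
    (plusRat (σ := σ) j) (hkPlus m) (hkPlus m) (fixes_plus m σ) hj hcomm (c := c₀) hTm hTr
  set su : Fˣ := Units.mk0 s hs0 with hsu
  have hdec := plusT_decomp hm h2 hT (s := su) (Units.ext (by rw [hc]; exact hs.symm))
  obtain ⟨hne, heq⟩ := splitL_index_two (DPlus (F := F) hm) (DPlus (F := F₀) hm)
    (plusRat (σ := σ) j) (hkPlus m) (hkPlus m) h2 (sq_of_two hσ hj)
    (exists_mult_plus hm) hν hy₁ (congrArg Units.val hym) (hyT.trans hdec)
  have hspin : (DPlus (F := F) hm).spin h2 (AutPOmega.diagPlus m fun _ => c / su) = 1 ↔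
      ¬ (Odd m ∧ q₀ % 4 = 1) := by
    rw [spin_diagPlus m hm h2]
    simp only [Finset.prod_const, Finset.card_univ, Fintype.card_fin]
    rw [show ((c / su : Fˣ) : F) = s by
      rw [Units.val_div_eq_div_val, hsu, Units.val_mk0, hc]
      show j ν / s = s
      rw [hs, mul_div_assoc, div_self hs0, mul_one]]
    exact sqrt_facts hσ h20 hj hν hq hs.symm m
  exact ⟨fun h => hne fun h' => hspin.1 h' h, fun h => heq (hspin.2 h)⟩

end Cfsg.Agent.Lib.OrthField
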