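import Cfsg.Agent.Lib.OrthField.Basic
import Cfsg.Agent.Lib.AutPSL.Split

/-!
Rational structures for semilinear similarities of finite order.
-/

set_option autoImplicit false

namespace Cfsg.Agent.Lib.OrthField

open Module QuadraticMap Cfsg.Agent.Lib.Forms
open Cfsg.Agent.Lib.AutPSL (tnorm mapGL coe_mapGL mapUnits exists_descent exists_tnorm_eq)
open scoped Matrix

variable {F : Type*} [Field F] {ι : Type} [Fintype ι] [DecidableEq ι]
  {F₀ : Type*} [Field F₀] {ι₀ : Type} [Fintype ι₀] [DecidableEq ι₀]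

theorem comp_single (j : F₀ →+* F) (k : ι₀) :
    ⇑j ∘ (Pi.single k 1 : ι₀ → F₀) = (Pi.single k 1 : ι₀ → F) := by
  funext l
  by_cases h : l = k
  · subst h; simp
  · simp [h]

/-- Quadratic forms agreeing on rational vectors. -/
theorem qf_ext_rat (j : F₀ →+* F) {R R' : QuadraticForm F (ι₀ → F)}
    (h : ∀ v : ι₀ → F₀, R (⇑j ∘ v) = R' (⇑j ∘ v)) : R = R' := by
  have h1 : ∀ k, R (Pi.single k 1) = R' (Pi.single k 1) := fun k => by rw [← comp_single j k, h]
  have h2 : polarBilin R = polarBilin R' := by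
    refine LinearMap.BilinForm.ext_basis (Pi.basisFun F ι₀) fun k l => ?_
    simp only [Pi.basisFun_apply, polarBilin_apply_apply, polar]
    rw [h1, h1]
    congr 2
    have := h (Pi.single k 1 + Pi.single l 1)
    rwa [show ⇑j ∘ (Pi.single k 1 + Pi.single l 1 : ι₀ → F₀) =
      (⇑j ∘ (Pi.single k 1 : ι₀ → F₀)) + (⇑j ∘ (Pi.single l 1 : ι₀ → F₀)) from
        funext fun i => map_add j _ _, comp_single, comp_single] at this
  have hp : ∀ x y, polar R x y = polar R' x y := fun x y => LinearMap.congr_fun₂ h2 x y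
  refine QuadraticMap.ext fun u => ?_
  rw [pi_eq_sum_univ' u]
  generalize (Finset.univ : Finset ι₀) = s
  induction s using Finset.induction with
  | empty => simp
  | insert k s hk ih => rw [Finset.sum_insert hk, Q_add, Q_add, Q_smul, Q_smul, h1, ih, hp]

/-- Base change of a linear equivalence. -/
noncomputable def bc {κ : Type} [Fintype κ] [DecidableEq κ] (j : F₀ →+* F)
    (e : (κ → F₀) ≃ₗ[F₀] (ι₀ → F₀)) : (κ → F) ≃ₗ[F] (ι₀ → F) :=
  LinearEquiv.ofLinear (Matrix.toLin' ((LinearMap.toMatrix' e.toLinearMap).map j))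
    (Matrix.toLin' ((LinearMap.toMatrix' e.symm.toLinearMap).map j))
    (by
      rw [← Matrix.toLin'_mul, ← Matrix.map_mul, ← LinearMap.toMatrix'_comp, LinearEquiv.comp_symm,
        LinearMap.toMatrix'_id, Matrix.map_one j (map_zero j) (map_one j), Matrix.toLin'_one])
    (by
      rw [← Matrix.toLin'_mul, ← Matrix.map_mul, ← LinearMap.toMatrix'_comp, LinearEquiv.symm_comp,
        LinearMap.toMatrix'_id, Matrix.map_one j (map_zero j) (map_one j), Matrix.toLin'_one])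

theorem bc_apply {κ : Type} [Fintype κ] [DecidableEq κ] (j : F₀ →+* F)
    (e : (κ → F₀) ≃ₗ[F₀] (ι₀ → F₀)) (v : κ → F₀) : bc j e (⇑j ∘ v) = ⇑j ∘ e v := by
  funext i
  show ((LinearMap.toMatrix' e.toLinearMap).map j *ᵥ (⇑j ∘ v)) i = j (e v i)
  rw [← RingHom.map_mulVec, LinearMap.toMatrix'_mulVec]
  rfl

/-- Conjugation of linear automorphisms by a linear equivalence. -/
def congrAut (h : (ι₀ → F) ≃ₗ[F] (ι → F)) :
    ((ι₀ → F) ≃ₗ[F] (ι₀ → F)) →* ((ι → F) ≃ₗ[F] (ι → F)) where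
  toFun A := (h.symm.trans A).trans h
  map_one' := LinearEquiv.ext fun v => by simp
  map_mul' A B := LinearEquiv.ext fun v => by simp

variable {f : (ι → F) → F}

/-- A rational structure for `v ↦ g σ(v)`, with form `f₀`. -/
structure Rat (g : GS f) (σ : F ≃+* F) (j : F₀ →+* F) (f₀ : (ι₀ → F₀) → F₀) where
  h : (ι₀ → F) ≃ₗ[F] (ι → F)
  w : F
  hw : w ≠ 0
  fix' : ∀ u : ι₀ → F, (g.1 : Matrix ι ι F) *ᵥ (fun i => σ (h u i)) = h fun i => σ (u i)
  val : ∀ v : ι₀ → F₀, f (h (⇑j ∘ v)) = w * j (f₀ v)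

variable {g : GS f} {σ : F ≃+* F} {j : F₀ →+* F} {f₀ : (ι₀ → F₀) → F₀}

/-- The model may be changed by a rational similarity. -/
noncomputable def Rat.change {κ : Type} [Fintype κ] [DecidableEq κ] (X : Rat g σ j f₀)
    (hj : ∀ a, σ (j a) = j a) (f₁ : (κ → F₀) → F₀) (e : (κ → F₀) ≃ₗ[F₀] (ι₀ → F₀)) (l : F₀)
    (hl : l ≠ 0) (he : ∀ v, f₀ (e v) = l * f₁ v) : Rat g σ j f₁ where
  h := (bc j e).trans X.h
  w := X.w * j l
  hw := mul_ne_zero X.hw ((map_ne_zero j).2 hl)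
  fix' u := by
    show _ = X.h (bc j e fun i => σ (u i))
    rw [LinearEquiv.trans_apply, X.fix']
    congr 1
    funext i
    show σ (((LinearMap.toMatrix' e.toLinearMap).map j *ᵥ u) i) =
      ((LinearMap.toMatrix' e.toLinearMap).map j *ᵥ fun i => σ (u i)) i
    simp only [Matrix.mulVec, dotProduct, Matrix.map_apply, map_sum, map_mul, hj]
  val v := by
    rw [LinearEquiv.trans_apply, bc_apply, X.val, he, map_mul, mul_assoc]

variable (D : OF f) (D₀ : OF f₀)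

/-- A rational similarity as a linear automorphism of the big space. -/
noncomputable def embLin (X : Rat g σ j f₀) : GS f₀ →* GL ι F :=
  (glEquiv (F := F) (ι := ι)).symm.toMonoidHom.comp ((congrAut X.h).comp
    ((glEquiv (F := F) (ι := ι₀)).toMonoidHom.comp
      ((Matrix.GeneralLinearGroup.map j).comp (GS f₀).subtype)))

theorem embLin_apply (X : Rat g σ j f₀) (y : GS f₀) (u : ι₀ → F) :
    (embLin X y : Matrix ι ι F) *ᵥ X.h u = X.h ((y.1 : Matrix ι₀ ι₀ F₀).map j *ᵥ u) := by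
  rw [← glEquiv_apply]
  show glEquiv (glEquiv.symm (congrAut X.h _)) (X.h u) = _
  rw [MulEquiv.apply_symm_apply]
  show X.h (glEquiv (Matrix.GeneralLinearGroup.map j y.1) (X.h.symm (X.h u))) = _
  rw [LinearEquiv.symm_apply_apply, glEquiv_apply]
  rfl

include D D₀ in
theorem embLin_spec (X : Rat g σ j f₀) (y : GS f₀) (v : ι → F) :
    f ((embLin X y : Matrix ι ι F) *ᵥ v) = j (D₀.mult y) * f v := by
  obtain ⟨u, rfl⟩ := X.h.surjective v
  rw [embLin_apply, D.hf, D.hf]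
  set R := D.Q.comp X.h.toLinearMap
  have key : R.comp (Matrix.toLin' ((y.1 : Matrix ι₀ ι₀ F₀).map j)) =
      j (D₀.mult y : F₀) • R := by
    refine qf_ext_rat j fun v => ?_
    show D.Q (X.h ((y.1 : Matrix ι₀ ι₀ F₀).map j *ᵥ (⇑j ∘ v))) = j _ * D.Q (X.h (⇑j ∘ v))
    rw [show (y.1 : Matrix ι₀ ι₀ F₀).map j *ᵥ (⇑j ∘ v) = ⇑j ∘ ((y.1 : Matrix ι₀ ι₀ F₀) *ᵥ v) from
      funext fun i => (RingHom.map_mulVec j _ v i).symm, ← D.hf, ← D.hf, X.val, X.val,
      D₀.mult_spec, map_mul]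
    ring
  exact DFunLike.congr_fun key u

/-- The similarity of `f` given by a rational similarity. -/
noncomputable def emb (X : Rat g σ j f₀) : GS f₀ →* GS f :=
  (embLin X).codRestrict _ fun y => ⟨Units.map (j : F₀ →* F) (D₀.mult y), embLin_spec D D₀ X y⟩

theorem emb_apply (X : Rat g σ j f₀) (y : GS f₀) (u : ι₀ → F) :
    ((emb D D₀ X y).1 : Matrix ι ι F) *ᵥ X.h u = X.h ((y.1 : Matrix ι₀ ι₀ F₀).map j *ᵥ u) :=
  embLin_apply X y u

theorem mult_emb (X : Rat g σ j f₀) (y : GS f₀) :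
    D.mult (emb D D₀ X y) = Units.map (j : F₀ →* F) (D₀.mult y) :=
  D.mult_eq (embLin_spec D D₀ X y)

theorem GS.ext_mulVec {a b : GS f} (X : (ι₀ → F) ≃ₗ[F] (ι → F))
    (h : ∀ u, (a.1 : Matrix ι ι F) *ᵥ X u = (b.1 : Matrix ι ι F) *ᵥ X u) : a = b :=
  Subtype.ext (Units.ext (Matrix.ext_of_mulVec_single fun i => by
    obtain ⟨u, hu⟩ := X.surjective (Pi.single i 1)
    rw [← hu, h]))

theorem emb_scal (X : Rat g σ j f₀) (z : F₀ˣ) :
    emb D D₀ X (D₀.scal z) = D.scal (Units.map (j : F₀ →* F) z) := by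
  refine GS.ext_mulVec X.h fun u => ?_
  rw [emb_apply, D.coe_scal_mulVec, ← map_smul]
  congr 1
  funext i
  show ((Matrix.scalar ι₀ (z : F₀)).map j *ᵥ u) i = _
  simp [Matrix.mulVec_diagonal, Matrix.diagonal_map]

theorem emb_eq_scal_iff [Nonempty ι₀] (X : Rat g σ j f₀) {y : GS f₀} {z : Fˣ}
    (h : emb D D₀ X y = D.scal z) : ∃ z₀ : F₀ˣ, y = D₀.scal z₀ := by
  have h1 : ∀ i k, j ((y.1 : Matrix ι₀ ι₀ F₀) i k) = if i = k then (z : F) else 0 := by
    intro i k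
    have h2 := emb_apply D D₀ X y (Pi.single k 1)
    rw [h, D.coe_scal_mulVec, ← map_smul] at h2
    have h3 := congrFun (X.h.injective h2) i
    simp [Matrix.mulVec_single_one] at h3
    rw [← h3, Pi.single_apply, mul_ite, mul_one, mul_zero]
  obtain ⟨i⟩ := ‹Nonempty ι₀›
  have h0 : (y.1 : Matrix ι₀ ι₀ F₀) i i ≠ 0 := fun h0 => by
    have := h1 i i
    rw [h0, map_zero, if_pos rfl] at this
    exact z.ne_zero this.symm
  refine ⟨Units.mk0 _ h0, Subtype.ext (Units.ext (Matrix.ext fun a b => j.injective ?_))⟩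
  show _ = j (Matrix.scalar ι₀ ((y.1 : Matrix ι₀ ι₀ F₀) i i) a b)
  rw [h1, Matrix.scalar_apply, Matrix.diagonal_apply]
  split_ifs with hab
  · rw [h1, if_pos rfl]
  · rw [map_zero]

variable [Finite F] (hσ : Fixes f σ)

/-- Rational similarities commute with `v ↦ g σ(v)`. -/
theorem emb_comm (X : Rat g σ j f₀) (hj : ∀ a, σ (j a) = j a) (y : GS f₀) :
    emb D D₀ X y * g = g * D.mapGS σ hσ (emb D D₀ X y) := by
  refine GS.ext_mulVec (X := (LinearEquiv.refl F (ι → F))) fun v => ?_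
  have hv : v = fun i => σ (σ.symm (v i)) := funext fun i => (σ.apply_symm_apply _).symm
  obtain ⟨u, hu⟩ := X.h.surjective (fun i => σ.symm (v i))
  show (((emb D D₀ X y).1 : Matrix ι ι F) * (g.1 : Matrix ι ι F)) *ᵥ v =
    ((g.1 : Matrix ι ι F) * ((D.mapGS σ hσ (emb D D₀ X y)).1 : Matrix ι ι F)) *ᵥ v
  rw [← Matrix.mulVec_mulVec, ← Matrix.mulVec_mulVec,
    show v = fun i => σ (X.h u i) from hv.trans (by rw [hu]), OF.coe_mapGS,
    OF.map_mulVec_comp, X.fix', emb_apply, emb_apply, X.fix']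
  congr 1
  funext i
  simp only [Matrix.mulVec, dotProduct, Matrix.map_apply, map_sum, map_mul, hj]

theorem conj_of_comm {k g₁ g₂ : GS f} (h : k * g₁ = g₂ * D.mapGS σ hσ k) :
    D.conjQ g₂ * D.fieldQ σ hσ = D.conjQ k * (D.conjQ g₁ * D.fieldQ σ hσ) * (D.conjQ k)⁻¹ := by
  rw [eq_mul_inv_iff_mul_eq, mul_assoc, D.fieldQ_conjQ, ← mul_assoc, ← map_mul, ← mul_assoc,
    ← map_mul, h]

theorem commute_iff (k : GS f) (g : GS f) :
    D.conjQ k * (D.conjQ g * D.fieldQ σ hσ) = (D.conjQ g * D.fieldQ σ hσ) * D.conjQ k ↔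
      ∃ c : Fˣ, k * g = D.scal c * (g * D.mapGS σ hσ k) := by
  rw [mul_assoc, D.fieldQ_conjQ, ← mul_assoc, ← mul_assoc, mul_left_inj, ← map_mul, ← map_mul,
    eq_comm, D.conjQ_eq_iff]

include D in
/-- Two elements with the same model are conjugate. -/
theorem exists_conj (hj : Function.Injective j) {g₁ g₂ : GS f} (X₁ : Rat g₁ σ j f₀)
    (X₂ : Rat g₂ σ j f₀) :
    ∃ k : GS f, k * g₁ = g₂ * D.mapGS σ hσ k ∧
      ∀ u, (k.1 : Matrix ι ι F) *ᵥ X₁.h u = X₂.h u := by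
  set k : GL ι F := glEquiv.symm (X₁.h.symm.trans X₂.h) with hk
  have hku : ∀ u, (k : Matrix ι ι F) *ᵥ X₁.h u = X₂.h u := fun u => by
    rw [← glEquiv_apply, hk, MulEquiv.apply_symm_apply]; simp
  have hmem : k ∈ GS f := by
    refine ⟨Units.mk0 (X₂.w / X₁.w) (div_ne_zero X₂.hw X₁.hw), fun v => ?_⟩
    obtain ⟨u, rfl⟩ := X₁.h.surjective v
    rw [hku, D.hf, D.hf, Units.val_mk0]
    refine DFunLike.congr_fun (qf_ext_rat j (R := D.Q.comp X₂.h.toLinearMap)
      (R' := (X₂.w / X₁.w) • D.Q.comp X₁.h.toLinearMap) fun v => ?_) u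
    show D.Q (X₂.h (⇑j ∘ v)) = X₂.w / X₁.w * D.Q (X₁.h (⇑j ∘ v))
    rw [← D.hf, ← D.hf, X₁.val, X₂.val]
    field_simp [X₁.hw]
  refine ⟨⟨k, hmem⟩, GS.ext_mulVec (X := (LinearEquiv.refl F (ι → F))) fun v => ?_, hku⟩
  obtain ⟨u, hu⟩ := X₁.h.surjective (fun i => σ.symm (v i))
  show ((k : Matrix ι ι F) * (g₁.1 : Matrix ι ι F)) *ᵥ v =
    ((g₂.1 : Matrix ι ι F) * ((D.mapGS σ hσ ⟨k, hmem⟩).1 : Matrix ι ι F)) *ᵥ v
  rw [← Matrix.mulVec_mulVec, ← Matrix.mulVec_mulVec,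
    show v = fun i => σ (X₁.h u i) from funext fun i => by rw [hu]; simp, OF.coe_mapGS,
    OF.map_mulVec_comp, X₁.fix', hku]
  show _ = (g₂.1 : Matrix ι ι F) *ᵥ fun i => σ (((k : Matrix ι ι F) *ᵥ X₁.h u) i)
  rw [hku, X₂.fix']

/-- The centraliser consists of the rational similarities and the scalars. -/
theorem exists_of_commute [Nonempty ι₀] (X : Rat g σ j f₀)
    (hj : ∀ a, σ a = a ↔ a ∈ Set.range j) {k : GS f} {c : Fˣ}
    (h : k * g = D.scal c * (g * D.mapGS σ hσ k)) :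
    ∃ (z : Fˣ) (y : GS f₀), k = D.scal z * emb D D₀ X y := by
  set A : Matrix ι₀ ι₀ F :=
    LinearMap.toMatrix' (X.h.symm.toLinearMap ∘ₗ Matrix.toLin' (k.1 : Matrix ι ι F) ∘ₗ X.h.toLinearMap)
    with hA
  have hAu : ∀ u, X.h (A *ᵥ u) = (k.1 : Matrix ι ι F) *ᵥ X.h u := fun u => by
    rw [hA, LinearMap.toMatrix'_mulVec]; simp
  have hrel : ∀ u, A *ᵥ (fun i => σ (u i)) = (c : F) • fun i => σ ((A *ᵥ u) i) := by
    intro u
    apply X.h.injective
    rw [hAu, map_smul, ← X.fix' (A *ᵥ u), hAu, ← X.fix' u]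
    have h1 := congrArg (fun a : GS f => (a.1 : Matrix ι ι F) *ᵥ fun i => σ (X.h u i)) h
    simp only [Subgroup.coe_mul, Units.val_mul, ← Matrix.mulVec_mulVec, OF.coe_mapGS,
      OF.map_mulVec_comp, D.coe_scal_mulVec] at h1
    exact h1
  have hent : ∀ i l, A i l = (c : F) * σ (A i l) := by
    intro i l
    have h1 := congrFun (hrel (Pi.single l 1)) i
    rw [show (fun m => σ ((Pi.single l 1 : ι₀ → F) m)) = Pi.single l 1 from by
      funext m; by_cases hm : m = l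
      · subst hm; simp
      · simp [hm]] at h1
    simpa [Matrix.mulVec_single_one] using h1
  have hA0 : IsUnit A := by
    rw [← Matrix.mulVec_injective_iff_isUnit]
    intro a b hab
    have h1 := congrArg X.h hab
    rw [hAu, hAu] at h1
    exact X.h.injective
      ((glEquiv k.1).injective (by rw [glEquiv_apply, glEquiv_apply]; exact h1))
  obtain ⟨i₀, l₀, h0⟩ : ∃ i l, A i l ≠ 0 := by
    by_contra hc
    push Not at hc
    exact hA0.ne_zero (Matrix.ext hc)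
  have hfixed : ∀ i l, ∃ b, j b = (A i₀ l₀)⁻¹ * A i l := fun i l => (hj _).1 (by
    conv_rhs => rw [hent i₀ l₀, hent i l]
    rw [map_mul, map_inv₀, _root_.mul_inv_rev, mul_assoc, inv_mul_cancel_left₀ c.ne_zero])
  choose Y hY using hfixed
  have hY' : (Matrix.of Y).map j = (A i₀ l₀)⁻¹ • A := Matrix.ext fun i l => hY i l
  have hYu : IsUnit (Matrix.of Y) := by
    rw [Matrix.isUnit_iff_isUnit_det, isUnit_iff_ne_zero]
    intro hd
    have h2 := j.map_det (Matrix.of Y)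
    rw [RingHom.mapMatrix_apply, hY', hd, map_zero, Matrix.det_smul] at h2
    exact mul_ne_zero (pow_ne_zero _ (inv_ne_zero h0))
      ((Matrix.isUnit_iff_isUnit_det _).1 hA0).ne_zero h2.symm
  set μ : F := (A i₀ l₀)⁻¹ * (A i₀ l₀)⁻¹ * (D.mult k : F)
  have hspec : ∀ v, j (f₀ (Matrix.of Y *ᵥ v)) = μ * j (f₀ v) := by
    intro v
    apply mul_left_cancel₀ X.hw
    rw [← X.val, show ⇑j ∘ (Matrix.of Y *ᵥ v) = (Matrix.of Y).map j *ᵥ (⇑j ∘ v) from
      funext fun i => RingHom.map_mulVec j _ v i, hY', Matrix.smul_mulVec, map_smul, hAu, D.hf,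
      Q_smul, ← D.hf, D.mult_spec, X.val]
    ring
  obtain ⟨v₀, hv₀⟩ := D₀.exists_ne
  set c₀ := f₀ (Matrix.of Y *ᵥ v₀) / f₀ v₀
  have hμ : j c₀ = μ := by
    rw [map_div₀, hspec, mul_div_assoc, div_self ((map_ne_zero j).2 hv₀), mul_one]
  have hc₀ : c₀ ≠ 0 := fun hc => by
    rw [hc, map_zero] at hμ
    exact mul_ne_zero (mul_ne_zero (inv_ne_zero h0) (inv_ne_zero h0)) (Units.ne_zero _) hμ.symm
  refine ⟨Units.mk0 _ h0, ⟨hYu.unit, Units.mk0 c₀ hc₀, fun v => j.injective ?_⟩,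
    GS.ext_mulVec X.h fun u => ?_⟩
  · rw [map_mul, Units.val_mk0, hμ]; exact hspec v
  · rw [Subgroup.coe_mul, Units.val_mul, ← Matrix.mulVec_mulVec, emb_apply, D.coe_scal_mulVec]
    show _ = A i₀ l₀ • X.h ((Matrix.of Y).map j *ᵥ u)
    rw [hY', Matrix.smul_mulVec, map_smul, smul_smul, mul_inv_cancel₀ h0, one_smul, hAu]

section Centralizer

variable [Nonempty ι₀] (X : Rat g σ j f₀) (hj : ∀ a, σ a = a ↔ a ∈ Set.range j)
  (H : Subgroup (GS f)) (H₀ : Subgroup (GS f₀))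
  (hH : ∀ z, D.scal z ∈ H) (hiff : ∀ y, emb D D₀ X y ∈ H ↔ y ∈ H₀)

include hj hH hiff in
theorem inf_centralizer_eq :
    H.map D.conjQ ⊓ Subgroup.centralizer {D.conjQ g * D.fieldQ σ hσ} =
      (H₀.map (emb D D₀ X)).map D.conjQ := by
  ext x
  rw [Subgroup.mem_inf, Subgroup.mem_centralizer_singleton_iff]
  constructor
  · rintro ⟨⟨k, hk, rfl⟩, hc⟩
    obtain ⟨c, hc⟩ := (commute_iff D hσ k g).1 hc
    obtain ⟨z, y, rfl⟩ := exists_of_commute D D₀ hσ X hj hc
    refine ⟨emb D D₀ X y, ⟨y, (hiff y).1 ?_, rfl⟩, by rw [map_mul, D.conjQ_scal, one_mul]⟩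
    exact (Subgroup.mul_mem_cancel_left H (hH z)).1 hk
  · rintro ⟨_, ⟨y, hy, rfl⟩, rfl⟩
    refine ⟨⟨_, (hiff y).2 hy, rfl⟩, (commute_iff D hσ _ g).2 ⟨1, ?_⟩⟩
    rw [map_one, one_mul]
    exact emb_comm D D₀ hσ X (fun a => (hj _).2 ⟨a, rfl⟩) y

include hj hH hiff in
theorem centralizer_equiv [Finite F₀] :
    Nonempty (↥(H.map D.conjQ ⊓ Subgroup.centralizer {D.conjQ g * D.fieldQ σ hσ}) ≃*
      ↥(H₀.map D₀.conjQ)) := by
  rw [inf_centralizer_eq D D₀ hσ X hj H H₀ hH hiff]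
  let Φ : H₀ →* MulAut (Cfsg.POmega F f) := (D.conjQ.comp (emb D D₀ X)).comp H₀.subtype
  let Ψ : H₀ →* MulAut (Cfsg.POmega F₀ f₀) := D₀.conjQ.comp H₀.subtype
  have hker : Φ.ker = Ψ.ker := by
    ext y
    simp only [MonoidHom.mem_ker, Φ, Ψ, MonoidHom.comp_apply, Subgroup.coe_subtype,
      OF.conjQ_eq_one_iff]
    exact ⟨fun ⟨z, hz⟩ => emb_eq_scal_iff D D₀ X hz,
      fun ⟨z, hz⟩ => ⟨_, by rw [hz, emb_scal]⟩⟩
  have h1 : Φ.range = (H₀.map (emb D D₀ X)).map D.conjQ := by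
    rw [MonoidHom.range_comp, Subgroup.range_subtype, ← Subgroup.map_map]
  have h2 : Ψ.range = H₀.map D₀.conjQ := by
    rw [MonoidHom.range_comp, Subgroup.range_subtype]
  exact ⟨(MulEquiv.subgroupCongr h1.symm).trans ((QuotientGroup.quotientKerEquivRange Φ).symm.trans
    ((QuotientGroup.quotientMulEquivOfEq hker).trans
      ((QuotientGroup.quotientKerEquivRange Ψ).trans (MulEquiv.subgroupCongr h2))))⟩

include hj hH hiff in
theorem splitClassCount_eq (O : Subgroup (GS f)) (hO : O ≤ H) (K : Subgroup (MulAut (Cfsg.POmega F f)))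
    [K.Normal] (hK : K = O.map D.conjQ) :
    Cfsg.splitClassCount (H.map D.conjQ) K (D.conjQ g * D.fieldQ σ hσ) =
      (O ⊔ H₀.map (emb D D₀ X) ⊔ (D.scal).range).relIndex H := by
  have hker : D.conjQ.ker = (D.scal).range := by
    ext y
    rw [MonoidHom.mem_ker, D.conjQ_eq_one_iff, MonoidHom.mem_range]
    exact exists_congr fun z => eq_comm
  have hle : D.conjQ.ker ≤ H := by
    rw [hker]; rintro _ ⟨z, rfl⟩; exact hH z
  rw [AutPSL.splitClassCount_eq (hK ▸ Subgroup.map_mono hO),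
    inf_centralizer_eq D D₀ hσ X hj H H₀ hH hiff, hK, ← Subgroup.map_sup,
    Subgroup.relIndex_map_map, sup_eq_left.2 hle, hker]

end Centralizer

include D in
/-- **Descent.** -/
theorem exists_rat {g : GS f} {r : ℕ} (hr : orderOf σ = r) (hr0 : 0 < r)
    (hj : ∀ a, σ a = a ↔ a ∈ Set.range j)
    (h : (D.conjQ g * D.fieldQ σ hσ) ^ r = 1) :
    ∃ (g' : GS f) (Q₀ : QuadraticForm F₀ (ι → F₀)), D.conjQ g' = D.conjQ g ∧ Nondeg Q₀ ∧
      Nonempty (Rat g' σ j (⇑Q₀)) := by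
  have hσr : σ ^ r = 1 := by rw [← hr]; exact pow_orderOf_eq_one σ
  rw [D.conjQ_mul_fieldQ_pow] at h
  obtain ⟨-, c, hc⟩ := D.eq_one_of_conjQ_mul_fieldQ _ h
  have hφr : D.mapGS σ hσ ^ r = 1 := by
    have key : ∀ k, ∀ x : GS f, ((D.mapGS σ hσ ^ k) x).1 = mapGL (σ ^ k) x.1 := by
      intro k
      induction k with
      | zero => intro x; rw [pow_zero, pow_zero, map_one]; rfl
      | succ k ih => intro x; rw [pow_succ', pow_succ', map_mul, MulAut.mul_apply, MulAut.mul_apply,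
          D.val_mapGS, ih]
    refine MulEquiv.ext fun x => Subtype.ext ?_
    rw [key, hσr, map_one]; rfl
  have hσc : mapUnits σ c = c := by
    have h1 := AutPSL.apply_tnorm_of_pow_eq_one (D.mapGS σ hσ) g hφr
    rw [hc, D.mapGS_scal, (D.scal_comm c g).eq] at h1
    exact D.scal_injective (mul_left_cancel h1)
  obtain ⟨z, hz⟩ := exists_tnorm_eq hr hr0 hσc
  have hmap : ∀ x, D.scal (mapUnits σ x) = D.mapGS σ hσ (D.scal x) := fun x =>
    (D.mapGS_scal σ hσ x).symm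
  set g' := D.scal z⁻¹ * g with hg'
  have hN : tnorm (D.mapGS σ hσ) g' r = 1 := by
    rw [hg', AutPSL.tnorm_mul, hc, ← AutPSL.map_tnorm (mapUnits σ) (D.mapGS σ hσ) D.scal hmap,
      ← map_mul]
    · rw [← hz, ← AutPSL.tnorm_units_mul, inv_mul_cancel, ← AutPSL.normHom_apply, map_one, map_one]
    · intro i _ x
      rw [← AutPSL.map_tnorm (mapUnits σ) (D.mapGS σ hσ) D.scal hmap, D.mapGS_scal]
      exact D.scal_comm _ x
  have hN' : tnorm (mapGL σ) g'.1 r = 1 := by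
    have := AutPSL.map_tnorm (D.mapGS σ hσ) (mapGL σ) (GS f).subtype (fun x => rfl) g' r
    rw [hN, map_one] at this
    exact this.symm
  obtain ⟨a, ha⟩ := exists_descent hr hr0 hN'
  have hga : (g'.1 : Matrix ι ι F) * (a : Matrix ι ι F).map σ = (a : Matrix ι ι F) :=
    congrArg Units.val (show g'.1 * mapGL σ a = a by rw [ha, inv_mul_cancel_right])
  set A : (ι → F) ≃ₗ[F] (ι → F) := glEquiv a with hA
  have hfix : ∀ u : ι → F, (g'.1 : Matrix ι ι F) *ᵥ (fun i => σ (A u i)) = A fun i => σ (u i) := by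
    intro u
    show (g'.1 : Matrix ι ι F) *ᵥ (fun i => σ (((a : Matrix ι ι F) *ᵥ u) i)) =
      (a : Matrix ι ι F) *ᵥ fun i => σ (u i)
    rw [← OF.map_mulVec_comp σ (a : Matrix ι ι F) u, Matrix.mulVec_mulVec, hga]
  have hjσ : ∀ v : ι → F₀, (fun i => σ ((⇑j ∘ v) i)) = ⇑j ∘ v := fun v =>
    funext fun i => (hj _).2 ⟨v i, rfl⟩
  have hμ : ∀ v : ι → F₀, f (A (⇑j ∘ v)) = (D.mult g' : F) * σ (f (A (⇑j ∘ v))) := by
    intro v
    conv_lhs => rw [← hjσ v, ← hfix, D.mult_spec, hσ]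
  set R := D.Q.comp A.toLinearMap with hR
  obtain ⟨v₀, hv₀⟩ : ∃ v : ι → F₀, R (⇑j ∘ v) ≠ 0 := by
    by_contra hno
    push Not at hno
    obtain ⟨y, hy⟩ := D.exists_ne
    obtain ⟨u, rfl⟩ := A.surjective y
    have := DFunLike.congr_fun (qf_ext_rat j (R := R) (R' := 0) fun v => by rw [hno v]; rfl) u
    exact hy (by rw [D.hf]; exact this)
  set w := R (⇑j ∘ v₀) with hw
  have hval : ∀ v, ∃ b, j b = w⁻¹ * R (⇑j ∘ v) := fun v => (hj _).1 (by
    have e1 := hμ v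
    have e2 := hμ v₀
    rw [D.hf] at e1 e2
    conv_rhs => rw [show w = (D.mult g' : F) * σ w from e2,
      show R (⇑j ∘ v) = (D.mult g' : F) * σ (R (⇑j ∘ v)) from e1]
    rw [map_mul, map_inv₀, _root_.mul_inv_rev, mul_assoc, inv_mul_cancel_left₀ (Units.ne_zero _)])
  choose q hq using hval
  have hcs : ∀ (t : F₀) (v : ι → F₀), ⇑j ∘ (t • v) = j t • (⇑j ∘ v) := fun t v =>
    funext fun i => map_mul j _ _
  have hca : ∀ (u v : ι → F₀), ⇑j ∘ (u + v) = (⇑j ∘ u) + (⇑j ∘ v) := fun u v =>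
    funext fun i => map_add j _ _
  have hpol : ∀ u v, j (polar q u v) = w⁻¹ * polar R (⇑j ∘ u) (⇑j ∘ v) := fun u v => by
    simp only [polar, map_sub, hq, hca]; ring
  let Q₀ : QuadraticForm F₀ (ι → F₀) := QuadraticMap.ofPolar q
    (fun t v => j.injective (by
      rw [smul_eq_mul, map_mul, map_mul, hq, hq, hcs, Q_smul]; ring))
    (fun u v x => j.injective (by rw [map_add, hpol, hpol, hpol, hca, polar_add_left]; ring))
    (fun t u x => j.injective (by
      rw [smul_eq_mul, map_mul, hpol, hpol, hcs, polar_smul_left, smul_eq_mul]; ring))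
  refine ⟨g', Q₀, by rw [hg', map_mul, D.conjQ_scal, one_mul], fun x hx => ?_,
    ⟨⟨A, w, hv₀, hfix, fun v => ?_⟩⟩⟩
  · by_contra hx0
    have h0 : A (⇑j ∘ x) = 0 := D.nd _ fun y => by
      obtain ⟨u, rfl⟩ := A.surjective y
      show polar D.Q (A (⇑j ∘ x)) (A u) = 0
      have hl : ∀ k, polarBilin R (⇑j ∘ x) (Pi.single k 1) = 0 := fun k => by
        have e := hpol x (Pi.single k 1)
        rw [show polar q x (Pi.single k 1) = polar Q₀ x (Pi.single k 1) from rfl, hx, map_zero,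
          comp_single, eq_comm, mul_eq_zero, or_iff_right (inv_ne_zero hv₀)] at e
        exact e
      have : polarBilin R (⇑j ∘ x) = 0 := (Pi.basisFun F ι).ext fun k => by
        rw [Pi.basisFun_apply, hl]; rfl
      have h2 := LinearMap.congr_fun this u
      rw [polarBilin_apply_apply, polar] at h2
      simp only [hR, QuadraticMap.comp_apply, LinearEquiv.coe_coe, map_add, LinearMap.zero_apply] at h2
      exact h2
    refine hx0 (funext fun i => j.injective ?_)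
    rw [map_eq_zero_iff _ A.injective] at h0
    rw [Pi.zero_apply, map_zero]
    exact congrFun h0 i
  · show _ = w * j (q v)
    rw [hq, mul_inv_cancel_left₀ hv₀, D.hf]; rfl

end Cfsg.Agent.Lib.OrthField
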