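import Cfsg.Agent.Lib.OrthField.Rat
import Cfsg.Agent.Lib.Orth52.Discriminant

/-!
Isometries inside the similarity group: Dickson invariant, spinor character and inner automorphisms.
-/

set_option autoImplicit false

namespace Cfsg.Agent.Lib.OrthField

open Module QuadraticMap Cfsg.Agent.Lib.Forms Cfsg.Agent.Lib.OrthOmega Cfsg.Agent.Lib.AutPOmega
open Cfsg.Agent.Lib.Orth52
open scoped Matrix

variable {F : Type*} [Field F] {ι : Type} [Fintype ι] [DecidableEq ι] {f : (ι → F) → F}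

namespace OF

variable (D : OF f)
include D

/-- An isometry as a similarity. -/
noncomputable def iso : orth D.Q →* GS f :=
  (((Cfsg.isometryGroup F f).subtype.comp (isoOrth D.Q D.hf).symm.toMonoidHom)).codRestrict _
    fun o => ⟨1, fun v => by
      rw [Units.val_one, one_mul]
      exact ((isoOrth D.Q D.hf).symm o).2 v 0⟩

theorem iso_apply (o : orth D.Q) (v : ι → F) :
    ((D.iso o).1 : Matrix ι ι F) *ᵥ v = o.1 v := by
  have := (isoOrth_apply D.Q D.hf ((isoOrth D.Q D.hf).symm o) v).symm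
  rwa [MulEquiv.apply_symm_apply] at this

theorem mult_iso (o : orth D.Q) : D.mult (D.iso o) = 1 :=
  D.mult_eq fun v => by rw [Units.val_one, one_mul, D.iso_apply, D.hf, D.hf]; exact o.2 v

theorem iso_injective : Function.Injective D.iso := fun o o' h => orth_ext fun v => by
  rw [← D.iso_apply, ← D.iso_apply, h]

theorem ext_mulVec {a b : GS f}
    (h : ∀ v, (a.1 : Matrix ι ι F) *ᵥ v = (b.1 : Matrix ι ι F) *ᵥ v) : a = b :=
  Subtype.ext (Units.ext (Matrix.ext_of_mulVec_single fun i => h _))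

theorem exists_iso {g : GS f} (h : D.mult g = 1) : ∃ o, D.iso o = g := by
  refine ⟨⟨glEquiv g.1, fun v => ?_⟩, D.ext_mulVec fun v => by rw [D.iso_apply]; rfl⟩
  show D.Q ((g.1 : Matrix ι ι F) *ᵥ v) = D.Q v
  rw [← D.hf, ← D.hf, D.mult_spec, h, Units.val_one, one_mul]

theorem exists_scal_iso {g : GS f} {z : Fˣ} (h : D.mult g = z * z) :
    ∃ o, g = D.scal z * D.iso o := by
  obtain ⟨o, ho⟩ := D.exists_iso (g := (D.scal z)⁻¹ * g) (by
    rw [map_mul, map_inv, D.mult_scal, h, inv_mul_cancel])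
  exact ⟨o, by rw [ho, mul_inv_cancel_left]⟩

theorem det_sq (g : GS f) :
    (g.1 : Matrix ι ι F).det * (g.1 : Matrix ι ι F).det = (D.mult g : F) ^ Fintype.card ι := by
  set G : Matrix ι ι F := (g.1 : Matrix ι ι F)
  have hp : ∀ u v, polar D.Q (G *ᵥ u) (G *ᵥ v) = (D.mult g : F) * polar D.Q u v := by
    intro u v
    simp only [polar, ← Matrix.mulVec_add, ← D.hf, G, D.mult_spec]
    ring
  have h : Gᵀ * gram D.Q * G = (D.mult g : F) • gram D.Q := by
    ext i k
    have h1 := hp (Pi.single i 1) (Pi.single k 1)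
    rw [polar_eq_gram, polar_eq_gram, Matrix.dotProduct_mulVec, Matrix.dotProduct_mulVec,
      ← Matrix.vecMul_transpose, Matrix.vecMul_vecMul, Matrix.dotProduct_mulVec,
      Matrix.vecMul_vecMul, ← Matrix.dotProduct_mulVec, ← Matrix.dotProduct_mulVec] at h1
    simpa [Matrix.mul_assoc] using h1
  have h' := congrArg Matrix.det h
  rw [Matrix.det_mul, Matrix.det_mul, Matrix.det_transpose, Matrix.det_smul] at h'
  apply mul_right_cancel₀ (gram_det_ne_zero D.nd)
  linear_combination h'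

theorem det_scal (z : Fˣ) : ((D.scal z).1 : Matrix ι ι F).det = (z : F) ^ Fintype.card ι := by
  show (Matrix.scalar ι (z : F)).det = _
  simp [Matrix.scalar_apply]

theorem det_iso_iff [Finite F] (h2 : (2 : F) ≠ 0) (o : orth D.Q) :
    ((D.iso o).1 : Matrix ι ι F).det = 1 ↔ dickson D.Q o = 0 := by
  set g := (isoOrth D.Q (fun _ => rfl)).symm o
  have hg : ((D.iso o).1 : Matrix ι ι F) = (g.1 : Matrix ι ι F) :=
    Matrix.ext_of_mulVec_single fun i => by
      rw [D.iso_apply, ← isoOrth_apply D.Q (fun _ => rfl) g, MulEquiv.apply_symm_apply]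
  rw [hg, det_orth_eq D.Q D.nd h2 g, MulEquiv.apply_symm_apply]

variable [Finite F]

/-- The image of `Omega`. -/
noncomputable def omegaG : Subgroup (GS f) := (commutator (orth D.Q)).map D.iso

theorem inn_eq_map : Cfsg.Inn (Cfsg.POmega F f) = D.omegaG.map D.conjQ := by
  set e := pOmegaEquiv D.Q D.nd D.h5' D.hf
  have hE : commutator (orth D.Q) = EG D.Q := commutator_eq_EG D.nd D.h5'
  have key : ∀ (x : Cfsg.POmega F f) (k : EG D.Q), e x = toP k →
      MulAut.conj x = D.conjQ (D.iso k.1) := fun x k hk => by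
    apply D.toPG'.injective
    rw [D.toPG_conjQ, show (D.ofGS (D.iso k.1)).aut = (Semisim.ofOrth k.1).aut from
      D.aut_congr fun v => (D.iso_apply k.1 v), ← Semisim.conj_eq_aut, ← hk]
    refine MulEquiv.ext fun y => ?_
    show e (x * e.symm y * x⁻¹) = e x * y * (e x)⁻¹
    rw [map_mul, map_mul, map_inv, MulEquiv.apply_symm_apply]
  ext β
  constructor
  · rintro ⟨x, rfl⟩
    obtain ⟨k, hk⟩ := toP_surj (e x)
    exact ⟨D.iso k.1, ⟨k.1, hE.ge k.2, rfl⟩, (key x k hk.symm).symm⟩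
  · rintro ⟨_, ⟨o, ho, rfl⟩, rfl⟩
    exact ⟨e.symm (toP ⟨o, hE.le ho⟩), key _ ⟨o, hE.le ho⟩ (e.apply_symm_apply _)⟩

theorem mem_commutator (h2 : (2 : F) ≠ 0) (o : orth D.Q) :
    o ∈ commutator (orth D.Q) ↔
      dickson D.Q o = 0 ∧ spinHom D.nd h2 (by have := D.h5'; omega) o = 1 :=
  mem_commutator_iff_spin D.nd h2 _ o

/-- The spinor character. -/
noncomputable def spin (h2 : (2 : F) ≠ 0) : orth D.Q →* ℤˣ :=
  spinHom D.nd h2 (by have := D.h5'; omega)

theorem dickson_mul' (o o' : orth D.Q) :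
    dickson D.Q (o * o') = dickson D.Q o + dickson D.Q o' :=
  Multiplicative.ofAdd.injective (map_mul (dicksonHom D.nd D.hne4) o o')

theorem dickson_orefl' {v : ι → F} (hv : D.Q v ≠ 0) : dickson D.Q (orefl D.Q v) = 1 :=
  dickson_orefl D.nd hv

/-- A rotation of spinor norm a non-square. -/
theorem exists_spin_neg (h2 : (2 : F) ≠ 0) :
    ∃ o, dickson D.Q o = 0 ∧ D.spin h2 o ≠ 1 := by
  have hn : 2 ≤ finrank F (ι → F) := by have := D.h7'; omega
  obtain ⟨ν, hν⟩ := exists_nonsq h2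
  obtain ⟨a, ha⟩ := exists_Q_eq D.nd hn 1
  obtain ⟨b, hb⟩ := exists_Q_eq D.nd hn ν
  have hν0 : ν ≠ 0 := fun h => hν (h ▸ IsSquare.zero)
  have ha0 : D.Q a ≠ 0 := by rw [ha]; exact one_ne_zero
  have hb0 : D.Q b ≠ 0 := by rw [hb]; exact hν0
  refine ⟨orefl D.Q a * orefl D.Q b, ?_, ?_⟩
  · rw [D.dickson_mul', D.dickson_orefl' ha0, D.dickson_orefl' hb0]; rfl
  · rw [map_mul, spin, (spinHom_orefl_eq_one_iff D.nd h2 hn ha0).2 (by rw [ha]; exact IsSquare.one),
      one_mul]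
    exact fun h => hν (hb ▸ (spinHom_orefl_eq_one_iff D.nd h2 hn hb0).1 h)

end OF

section Emb

variable [Finite F] {F₀ : Type*} [Field F₀] [Finite F₀] {ι₀ : Type} [Fintype ι₀] [DecidableEq ι₀]
  {f₀ : (ι₀ → F₀) → F₀} {g : GS f} {σ : F ≃+* F} {j : F₀ →+* F}
  (D : OF f) (D₀ : OF f₀) (X : Rat g σ j f₀)

/-- A rational isometry as an isometry. -/
noncomputable def embO : orth D₀.Q →* orth D.Q :=
  ((glEquiv (F := F) (ι := ι)).toMonoidHom.comp
    ((GS f).subtype.comp ((emb D D₀ X).comp D₀.iso))).codRestrict _ fun o v => by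
      show D.Q (((emb D D₀ X (D₀.iso o)).1 : Matrix ι ι F) *ᵥ v) = D.Q v
      rw [← D.hf, ← D.hf, D.mult_spec, mult_emb, D₀.mult_iso, map_one, Units.val_one, one_mul]

theorem iso_embO (o : orth D₀.Q) : D.iso (embO D D₀ X o) = emb D D₀ X (D₀.iso o) :=
  D.ext_mulVec fun v => by rw [D.iso_apply]; rfl

theorem Q_h (v : ι₀ → F₀) : D.Q (X.h (⇑j ∘ v)) = X.w * j (D₀.Q v) := by
  rw [← D.hf, X.val, D₀.hf]

theorem embO_orefl {v : ι₀ → F₀} (hv : D₀.Q v ≠ 0) :
    embO D D₀ X (orefl D₀.Q v) = orefl D.Q (X.h (⇑j ∘ v)) := by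
  refine orth_ext fun x => ?_
  obtain ⟨u, rfl⟩ := X.h.surjective x
  show ((emb D D₀ X (D₀.iso (orefl D₀.Q v))).1 : Matrix ι ι F) *ᵥ X.h u =
    refl D.Q (X.h (⇑j ∘ v)) (X.h u)
  rw [emb_apply]
  set R := D.Q.comp X.h.toLinearMap with hR
  have hcomb : X.h ((((D₀.iso (orefl D₀.Q v)).1 : Matrix ι₀ ι₀ F₀)).map j *ᵥ u) =
      X.h (refl R (⇑j ∘ v) u) := by
    congr 1
    have e : Matrix.toLin' ((((D₀.iso (orefl D₀.Q v)).1 : Matrix ι₀ ι₀ F₀)).map j) =
        (refl R (⇑j ∘ v)).toLinearMap := by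
      refine (Pi.basisFun F ι₀).ext fun k => ?_
      rw [Pi.basisFun_apply, ← comp_single j k, Matrix.toLin'_apply, LinearEquiv.coe_coe]
      funext i
      rw [← RingHom.map_mulVec, D₀.iso_apply]
      show j ((refl D₀.Q v (Pi.single k 1)) i) = _
      have hpol : polar R (⇑j ∘ v) (⇑j ∘ (Pi.single k 1 : ι₀ → F₀)) =
          X.w * j (polar D₀.Q v (Pi.single k 1)) := by
        have hca : (⇑j ∘ v) + (⇑j ∘ (Pi.single k 1 : ι₀ → F₀)) = ⇑j ∘ (v + Pi.single k 1) :=
          funext fun i => (map_add j _ _).symm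
        simp only [polar, hR, hca, QuadraticMap.comp_apply, LinearEquiv.coe_coe, Q_h D D₀ X,
          map_sub]
        ring
      rw [refl_apply, refl_apply, hpol, show R (⇑j ∘ v) = X.w * j (D₀.Q v) from Q_h D D₀ X v]
      simp only [Pi.sub_apply, Pi.smul_apply, Function.comp_apply, smul_eq_mul, map_sub, map_mul,
        map_inv₀]
      field_simp [X.hw, (map_ne_zero j).2 hv]
    exact LinearMap.congr_fun e u
  rw [hcomb, refl_apply, refl_apply, map_sub, map_smul]
  simp only [hR, polar, QuadraticMap.comp_apply, LinearEquiv.coe_coe, map_add]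

theorem orth_hom_ext {M : Type*} [Monoid M] {A B : orth D₀.Q →* M}
    (h : ∀ v, D₀.Q v ≠ 0 → A (orefl D₀.Q v) = B (orefl D₀.Q v)) : A = B :=
  MonoidHom.eq_of_eqOn_dense (closure_reflSet D₀.nd D₀.hne4) fun x hx => by
    obtain ⟨v, hv, rfl⟩ := hx; exact h v hv

theorem Q_h_ne {v : ι₀ → F₀} (hv : D₀.Q v ≠ 0) : D.Q (X.h (⇑j ∘ v)) ≠ 0 := by
  rw [Q_h D D₀ X]; exact mul_ne_zero X.hw ((map_ne_zero j).2 hv)

theorem dickson_embO (o : orth D₀.Q) : dickson D.Q (embO D D₀ X o) = dickson D₀.Q o := by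
  have h : (dicksonHom D.nd D.hne4).comp (embO D D₀ X) = dicksonHom D₀.nd D₀.hne4 :=
    orth_hom_ext D₀ fun v hv => by
      rw [MonoidHom.comp_apply, embO_orefl D D₀ X hv, dicksonHom_orefl D.nd _ (Q_h_ne D D₀ X hv),
        dicksonHom_orefl D₀.nd _ hv]
  exact Multiplicative.ofAdd.injective (DFunLike.congr_fun h o)

open Classical in
/-- If every rational element is a square, rational rotations have trivial spinor norm. -/
theorem spin_embO (h2 : (2 : F) ≠ 0) (hsq : ∀ c : F₀, IsSquare (j c)) {o : orth D₀.Q}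
    (ho : dickson D₀.Q o = 0) : D.spin h2 (embO D D₀ X o) = 1 := by
  have hn : 2 ≤ finrank F (ι → F) := by have := D.h7'; omega
  have h : (D.spin h2).comp (embO D D₀ X) =
      (zmod2Char (if IsSquare X.w then 1 else -1)).comp (dicksonHom D₀.nd D₀.hne4) :=
    orth_hom_ext D₀ fun v hv => by
      obtain ⟨s, hs⟩ := hsq (D₀.Q v)
      have hs0 : s ≠ 0 := fun e => (map_ne_zero j).2 hv (by rw [hs, e, mul_zero])
      have hiff : IsSquare (D.Q (X.h (⇑j ∘ v))) ↔ IsSquare X.w := by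
        rw [Q_h D D₀ X, hs]
        exact ⟨fun ⟨t, ht⟩ => ⟨t / s, by field_simp; linear_combination ht⟩,
          fun ⟨t, ht⟩ => ⟨t * s, by rw [ht]; ring⟩⟩
      rw [MonoidHom.comp_apply, MonoidHom.comp_apply, embO_orefl D D₀ X hv,
        dicksonHom_orefl D₀.nd _ hv, zmod2Char_gen]
      have h1 := spinHom_orefl_eq_one_iff D.nd h2 hn (Q_h_ne D D₀ X hv)
      rw [hiff] at h1
      split_ifs with hw
      · exact h1.2 hw
      · exact (Int.units_eq_one_or _).resolve_left fun e => hw (h1.1 e)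
  have := DFunLike.congr_fun h o
  rw [MonoidHom.comp_apply, MonoidHom.comp_apply,
    show dicksonHom D₀.nd D₀.hne4 o = 1 from congrArg Multiplicative.ofAdd ho, map_one] at this
  exact this

/-- If non-squares stay non-squares, some rational rotation has non-trivial spinor norm. -/
theorem exists_spin_embO (h2 : (2 : F) ≠ 0) (h20 : (2 : F₀) ≠ 0)
    (hns : ∀ c : F₀, ¬ IsSquare c → ¬ IsSquare (j c)) :
    ∃ o : orth D₀.Q, dickson D₀.Q o = 0 ∧ D.spin h2 (embO D D₀ X o) ≠ 1 := by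
  have hn : 2 ≤ finrank F (ι → F) := by have := D.h7'; omega
  have hn₀ : 2 ≤ finrank F₀ (ι₀ → F₀) := by have := D₀.h7'; omega
  obtain ⟨ν, hν⟩ := exists_nonsq h20
  obtain ⟨a, ha⟩ := exists_Q_eq D₀.nd hn₀ 1
  obtain ⟨b, hb⟩ := exists_Q_eq D₀.nd hn₀ ν
  have hν0 : ν ≠ 0 := fun h => hν (h ▸ IsSquare.zero)
  have ha0 : D₀.Q a ≠ 0 := by rw [ha]; exact one_ne_zero
  have hb0 : D₀.Q b ≠ 0 := by rw [hb]; exact hν0
  refine ⟨orefl D₀.Q a * orefl D₀.Q b, (by
    rw [D₀.dickson_mul', D₀.dickson_orefl' ha0, D₀.dickson_orefl' hb0]; rfl), fun h => ?_⟩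
  rw [map_mul, map_mul, embO_orefl D D₀ X ha0, embO_orefl D D₀ X hb0, mul_eq_one_iff_eq_inv,
    Int.units_inv_eq_self] at h
  have h1 := spinHom_orefl_eq_one_iff D.nd h2 hn (Q_h_ne D D₀ X ha0)
  have h1' := spinHom_orefl_eq_one_iff D.nd h2 hn (Q_h_ne D D₀ X hb0)
  have hiff : IsSquare X.w ↔ IsSquare (X.w * j ν) := by
    rw [OF.spin] at h
    rw [Q_h D D₀ X, ha, map_one, mul_one] at h1
    rw [Q_h D D₀ X, hb] at h1'
    rw [← h1, ← h1', h]
  have := Fintype.ofFinite F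
  classical
  have hchar : ringChar F ≠ 2 := fun e => h2 (by
    have := ringChar.Nat.cast_ringChar (R := F)
    rw [e] at this; exact_mod_cast this)
  rw [isSquare_mul_nonsquare hchar X.hw ((map_ne_zero j).2 hν0) (hns ν hν)] at hiff
  exact iff_not_self hiff

end Emb

end Cfsg.Agent.Lib.OrthField
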