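import Cfsg.Agent.Lib.OrthField.EvenSplit
import Cfsg.Agent.Lib.AutPOmega.Spinor

/-!
The number of classes in a quadratic extension of odd characteristic: two or four.
-/

set_option autoImplicit false

namespace Cfsg.Agent.Lib.OrthField

open Module QuadraticMap Cfsg.Agent.Lib.Forms Cfsg.Agent.Lib.OrthStd Cfsg.Agent.Lib.OrthOmega
open Cfsg.Agent.Lib.AutPOmega (diagPlus diagPlus_single qPlus_pairVec)
open scoped Matrix

variable {F : Type*} [Field F] [Finite F]

theorem isSquare_mul_of_not (h2 : (2 : F) ≠ 0) {x y : F} (hx : ¬ IsSquare x) (hy : ¬ IsSquare y) :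
    IsSquare (x * y) := by
  have := AutPOmega.isSquare_div_of_not h2 hx hy
  have hy0 : y ≠ 0 := fun h => hy (h ▸ IsSquare.zero)
  obtain ⟨t, ht⟩ := this
  exact ⟨t * y, by field_simp at ht; linear_combination y * ht⟩

theorem isSquare_mul_iff {x y : F} (hy0 : y ≠ 0) (hy : IsSquare y) :
    IsSquare (x * y) ↔ IsSquare x := by
  refine ⟨fun h => ?_, fun h => h.mul hy⟩
  have := h.div hy
  rwa [mul_div_cancel_right₀ _ hy0] at this

section Generic

variable {ι : Type} [Fintype ι] [DecidableEq ι] {f : (ι → F) → F}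
  {F₀ : Type*} [Field F₀] [Finite F₀] {ι₀ : Type} [Fintype ι₀] [DecidableEq ι₀]
  {f₀ : (ι₀ → F₀) → F₀} {g : GS f} {σ : F ≃+* F} {j : F₀ →+* F}
  (D : OF f) (D₀ : OF f₀) (X : Rat g σ j f₀) {k : ℕ} (hk : Fintype.card ι = 2 * k)
  (hk₀ : Fintype.card ι₀ = 2 * k)

/-- An element commuting with the semilinear map and with fixed multiplier comes from below. -/
theorem exists_emb_of_comm [Nonempty ι₀] (hσ : Fixes f σ) (hj : ∀ a, σ a = a ↔ a ∈ Set.range j)
    {T : GS f} (h : T * g = g * D.mapGS σ hσ T) {c : F₀ˣ}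
    (hc : D.mult T = Units.map (j : F₀ →* F) c) (hT : T ∈ D.rot hk) :
    ∃ y ∈ D₀.rot hk₀, emb D D₀ X y = T ∧ D₀.mult y = c := by
  obtain ⟨z, y, rfl⟩ := exists_of_commute D D₀ hσ X hj (k := T) (c := 1)
    (by rwa [map_one, one_mul])
  have hz : AutPSL.mapUnits σ z = z := by
    have h1 := emb_comm D D₀ hσ X (fun a => (hj _).2 ⟨a, rfl⟩) y
    have h2 : D.scal z * (g * D.mapGS σ hσ (emb D D₀ X y)) =
        D.scal (AutPSL.mapUnits σ z) * (g * D.mapGS σ hσ (emb D D₀ X y)) := by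
      rw [← h1, ← mul_assoc, h, map_mul, D.mapGS_scal, ← mul_assoc, ← (D.scal_comm _ g).eq,
        mul_assoc, ← h1]
    exact (D.scal_injective (mul_right_cancel h2)).symm
  obtain ⟨z₀, hz₀⟩ := (hj (z : F)).1 (congrArg Units.val hz)
  have hz₀0 : z₀ ≠ 0 := fun e => z.ne_zero (by rw [← hz₀, e, map_zero])
  have hemb : emb D D₀ X (D₀.scal (Units.mk0 z₀ hz₀0) * y) = D.scal z * emb D D₀ X y := by
    rw [map_mul, emb_scal]
    congr 2
    exact Units.ext hz₀
  refine ⟨_, ?_, hemb, ?_⟩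
  · rw [← emb_mem_rot_iff D D₀ X hk hk₀, hemb]; exact hT
  · refine Units.map_injective (f := (j : F₀ →* F)) j.injective ?_
    rw [← mult_emb D D₀ X, hemb, hc]

variable (h2 : (2 : F) ≠ 0) (hsq : ∀ c : F₀, IsSquare (j c))
  (hmult : ∀ c : Fˣ, ∃ g' : GS f, D.mult g' = c)
  {ν : F₀} (hν : ¬ IsSquare ν) {y₁ : GS f₀} (hy₁ : y₁ ∈ D₀.rot hk₀) (hm₁ : (D₀.mult y₁ : F₀) = ν)
  {s : Fˣ} {o₁ : orth D.Q} (ho₁ : emb D D₀ X y₁ = D.scal s * D.iso o₁)

include hk h2 hsq hmult hν hy₁ hm₁ ho₁ in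
/-- Two or four classes. -/
theorem splitL_index_two :
    (D.spin h2 o₁ ≠ 1 → (splitL D D₀ X hk₀).relIndex (D.rot hk) = 2) ∧
      (D.spin h2 o₁ = 1 → (splitL D D₀ X hk₀).relIndex (D.rot hk) = 4) := by
  have h20 : (2 : F₀) ≠ 0 := fun h => h2 (by rw [← map_ofNat j 2, h, map_zero])
  set L := splitL D D₀ X hk₀
  have hLΩ : ∀ o, dickson D.Q o = 0 → D.spin h2 o = 1 → D.iso o ∈ L := fun o h h' =>
    Subgroup.mem_sup_left (Subgroup.mem_sup_left ⟨o, (D.mem_commutator h2 o).2 ⟨h, h'⟩, rfl⟩)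
  have hLs : ∀ z, D.scal z ∈ L := fun z => Subgroup.mem_sup_right ⟨z, rfl⟩
  have hemb : ∀ y₀ ∈ D₀.rot hk₀, emb D D₀ X y₀ ∈ L := fun y₀ h =>
    Subgroup.mem_sup_left (Subgroup.mem_sup_right ⟨y₀, h, rfl⟩)
  have hy₁' : emb D D₀ X y₁ ∈ D.rot hk := (emb_mem_rot_iff D D₀ X hk hk₀ y₁).2 hy₁
  have ho₁d : dickson D.Q o₁ = 0 := by
    rw [ho₁] at hy₁'
    exact (D.iso_mem_rot hk).1 (((D.rot hk).mul_mem_cancel_left (D.scal_mem_rot hk s)).1 hy₁')
  set M : Subgroup (GS f) := D.rot hk ⊓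
    ((powMonoidHom 2 : Fˣ →* Fˣ).range.comap D.mult) with hMdef
  have hMmem : ∀ g : GS f, g ∈ M ↔ g ∈ D.rot hk ∧ IsSquare (D.mult g : F) := fun g => by
    rw [hMdef, Subgroup.mem_inf, Subgroup.mem_comap, MonoidHom.mem_range]
    refine and_congr_right fun _ => ⟨fun ⟨z, hz⟩ => ⟨(z : F), ?_⟩, fun ⟨z, hz⟩ => ?_⟩
    · rw [← hz]; exact _root_.sq (z : F)
    · exact ⟨Units.mk0 z fun e => (D.mult g).ne_zero (by rw [hz, e, mul_zero]),
        Units.ext ((_root_.sq z).trans hz.symm)⟩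
  have hLM : L ≤ M := by
    refine sup_le (sup_le ?_ ?_) ?_
    · rintro y hy
      refine (hMmem y).2 ⟨D.omegaG_le_rot hk hy, ?_⟩
      obtain ⟨o, -, rfl⟩ := hy
      rw [D.mult_iso]; exact IsSquare.one
    · rintro _ ⟨y, hy, rfl⟩
      refine (hMmem _).2 ⟨(emb_mem_rot_iff D D₀ X hk hk₀ y).2 hy, ?_⟩
      rw [mult_emb]; exact hsq _
    · rintro _ ⟨z, rfl⟩
      exact (hMmem _).2 ⟨D.scal_mem_rot hk z, by rw [D.mult_scal]; exact ⟨z, rfl⟩⟩
  have hMrot : M.relIndex (D.rot hk) = 2 := by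
    obtain ⟨ν', hν'⟩ := exists_nonsq h2
    obtain ⟨t, ht, hmt⟩ := exists_rot_mult D hk
      (Units.mk0 ν' fun e => hν' (e ▸ IsSquare.zero)) (hmult _)
    refine relIndex_eq_two ht (fun h => hν' ?_) fun b hb => ?_
    · have := ((hMmem t).1 h).2; rwa [hmt] at this
    · by_cases hs : IsSquare (D.mult b : F)
      · exact Or.inl ((hMmem b).2 ⟨hb, hs⟩)
      · refine Or.inr ((hMmem _).2 ⟨mul_mem hb ht, ?_⟩)
        rw [map_mul, Units.val_mul, hmt]
        exact isSquare_mul_of_not h2 hs hν'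
  have hdec : ∀ b ∈ M, ∃ z o, b = D.scal z * D.iso o ∧ dickson D.Q o = 0 := by
    intro b hb
    obtain ⟨hb, t, ht⟩ := (hMmem b).1 hb
    have ht0 : t ≠ 0 := fun e => (D.mult b).ne_zero (by rw [ht, e, mul_zero])
    obtain ⟨o, h⟩ := D.decomp_rot_sq hk hb (z := Units.mk0 t ht0) (Units.ext ht)
    exact ⟨_, o, h⟩
  rw [← Subgroup.relIndex_mul_relIndex L M (D.rot hk) hLM inf_le_left, hMrot]
  constructor
  · intro hne
    suffices L.relIndex M = 1 by rw [this]
    rw [Subgroup.relIndex_eq_one]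
    intro b hb
    obtain ⟨z, o, rfl, ho⟩ := hdec b hb
    refine mul_mem (hLs z) ?_
    by_cases hsp : D.spin h2 o = 1
    · exact hLΩ o ho hsp
    rw [show D.iso o = D.iso (o * o₁) * (D.iso o₁)⁻¹ by rw [map_mul, mul_inv_cancel_right]]
    refine mul_mem (hLΩ _ (by rw [D.dickson_mul', ho, ho₁d, add_zero]) ?_) (inv_mem ?_)
    · rw [map_mul, (Int.units_eq_one_or _).resolve_left hsp, (Int.units_eq_one_or _).resolve_left hne]
      rfl
    · have := mul_mem (inv_mem (hLs s)) (hemb _ hy₁)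
      rwa [ho₁, inv_mul_cancel_left] at this
  · intro he
    suffices L.relIndex M = 2 by rw [this]
    haveI : (D.scal.range).Normal := ⟨by
      rintro _ ⟨z, rfl⟩ b
      exact ⟨z, by rw [← (D.scal_comm z b).eq, mul_inv_cancel_right]⟩⟩
    set Good := D.scal.range ⊔ (commutator (orth D.Q)).map D.iso
    have hGood : ∀ z o, dickson D.Q o = 0 → D.spin h2 o = 1 → D.scal z * D.iso o ∈ Good :=
      fun z o h h' => mul_mem (Subgroup.mem_sup_left ⟨z, rfl⟩)
        (Subgroup.mem_sup_right ⟨o, (D.mem_commutator h2 o).2 ⟨h, h'⟩, rfl⟩)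
    have hsqy : ∀ y ∈ D₀.rot hk₀, IsSquare (D₀.mult y : F₀) → emb D D₀ X y ∈ Good := by
      rintro y hy ⟨c, hc⟩
      have hc0 : c ≠ 0 := fun e => (D₀.mult y).ne_zero (by rw [hc, e, mul_zero])
      obtain ⟨o, rfl, ho⟩ := D₀.decomp_rot_sq hk₀ hy (z := Units.mk0 c hc0) (Units.ext hc)
      rw [map_mul, emb_scal, ← iso_embO]
      exact hGood _ _ (by rw [dickson_embO, ho]) (spin_embO D D₀ X h2 hsq ho)
    have hle : L ≤ Good := by
      refine sup_le (sup_le le_sup_right ?_) le_sup_left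
      rintro _ ⟨y, hy, rfl⟩
      by_cases hs : IsSquare (D₀.mult y : F₀)
      · exact hsqy y hy hs
      · rw [← mul_inv_cancel_right y y₁, map_mul, map_inv]
        refine mul_mem (hsqy _ (mul_mem hy hy₁) ?_) (inv_mem ?_)
        · rw [map_mul, Units.val_mul, hm₁]; exact isSquare_mul_of_not h20 hs hν
        · rw [ho₁]; exact hGood s o₁ ho₁d he
    obtain ⟨oN, hoN, hsN⟩ := D.exists_spin_neg h2
    obtain ⟨o₀, ho₀⟩ := D₀.exists_iso (g := D₀.scal (-1)) (by
      rw [D₀.mult_scal, neg_mul_neg, one_mul])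
    have hneg : D.iso (embO D D₀ X o₀) = D.scal (-1) := by
      rw [iso_embO, ho₀, emb_scal]
      congr 1
      exact Units.ext (by simp)
    have hspinneg : D.spin h2 (embO D D₀ X o₀) = 1 := spin_embO D D₀ X h2 hsq
      ((D₀.iso_mem_rot hk₀).1 (by rw [ho₀]; exact D₀.scal_mem_rot hk₀ _))
    refine relIndex_eq_two (a := D.iso oN)
      ((hMmem _).2 ⟨(D.iso_mem_rot hk).2 hoN, by rw [D.mult_iso]; exact IsSquare.one⟩)
      (fun hmem => hsN ?_) fun b hb => ?_
    · obtain ⟨_, ⟨z, rfl⟩, _, ⟨o, ho, rfl⟩, e⟩ := Subgroup.mem_sup_of_normal_left.1 (hle hmem)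
      obtain ⟨-, hs⟩ := (D.mem_commutator h2 o).1 ho
      have h1 := congrArg D.mult e
      rw [map_mul, D.mult_scal, D.mult_iso, D.mult_iso, mul_one] at h1
      rcases mul_self_eq_one_iff.1 (show (z : F) * z = 1 by rw [← Units.val_mul, h1, Units.val_one])
        with hz | hz
      · obtain rfl : z = 1 := Units.ext hz
        rw [map_one, one_mul] at e
        rw [← D.iso_injective e]; exact hs
      · obtain rfl : z = -1 := Units.ext (by rw [hz]; simp)
        rw [← hneg, ← map_mul] at e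
        rw [← D.iso_injective e, map_mul, hspinneg, one_mul]; exact hs
    · obtain ⟨z, o, rfl, ho⟩ := hdec b hb
      by_cases hsp : D.spin h2 o = 1
      · exact Or.inl (mul_mem (hLs z) (hLΩ o ho hsp))
      · refine Or.inr ?_
        rw [mul_assoc, ← map_mul]
        refine mul_mem (hLs z) (hLΩ _ (by rw [D.dickson_mul', ho, hoN, add_zero]) ?_)
        rw [map_mul, (Int.units_eq_one_or _).resolve_left hsp,
          (Int.units_eq_one_or _).resolve_left hsN]
        rfl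

end Generic

/-! ### The torus of the plus form -/

theorem spin_diagPlus (m : ℕ) (hm : 4 ≤ m) (h2 : (2 : F) ≠ 0) (t : Fin m → Fˣ) :
    (DPlus (F := F) hm).spin h2 (diagPlus m t) = 1 ↔ IsSquare (∏ i, (t i : F)) := by
  classical
  have := Fintype.ofFinite F
  let χ : (Fin m → Fˣ) →* ℤˣ := ((DPlus (F := F) hm).spin h2).comp (diagPlus m)
  let ψ : (Fin m → Fˣ) →* ℤˣ := (Units.map (quadraticChar F).toMonoidHom).comp
    { toFun := fun t => ∏ i, t i
      map_one' := Finset.prod_const_one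
      map_mul' := fun a b => Finset.prod_mul_distrib }
  have key : χ = ψ := MonoidHom.pi_ext fun i u => by
    apply Units.ext
    show ((((DPlus (F := F) hm).spin h2) (diagPlus m (Pi.mulSingle i u)) : ℤˣ) : ℤ) =
      quadraticChar F ((∏ l, (Pi.mulSingle (M := fun _ => Fˣ) i u l) : Fˣ) : F)
    rw [Finset.prod_pi_mulSingle' i u, if_pos (Finset.mem_univ i), diagPlus_single]
    have hiff := Orth52.spinHom_oreflProd_eq_one_iff (DPlus (F := F) hm).nd h2
      (by have := (DPlus (F := F) hm).h7'; omega)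
      [AutPOmega.pairVec i (1 : F), AutPOmega.pairVec i (u : F)] (by
        intro v hv
        simp only [List.mem_cons, List.not_mem_nil, or_false] at hv
        rcases hv with rfl | rfl <;> simp [qPlus_pairVec])
    simp only [Orth52.oreflProd, List.map_cons, List.map_nil, List.prod_cons, List.prod_nil,
      qPlus_pairVec, mul_one, neg_mul_neg, one_mul] at hiff
    by_cases hs : IsSquare (u : F)
    · rw [(quadraticChar_one_iff_isSquare u.ne_zero).2 hs, show (DPlus (F := F) hm).spin h2 _ = 1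
        from hiff.2 hs]
      rfl
    · rw [(quadraticChar_neg_one_iff_not_isSquare (a := (u : F))).2 hs,
        show (DPlus (F := F) hm).spin h2 _ = -1 from
          (Int.units_eq_one_or _).resolve_left fun e => hs (hiff.1 e)]
      rfl
  show χ t = 1 ↔ _
  rw [key, Units.ext_iff, ← Units.coe_prod]
  show quadraticChar F ((∏ i, t i : Fˣ) : F) = 1 ↔ _
  exact quadraticChar_one_iff_isSquare (Units.ne_zero _)

/-- A torus element of the plus similarity group. -/
theorem exists_plusT {m : ℕ} (hm : 4 ≤ m) (a : Fin m → Fˣ) (c : Fˣ) :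
    ∃ T : GS (Cfsg.quadFormPlus m F), (DPlus (F := F) hm).mult T = c ∧
      ∀ v, (T.1 : Matrix (Fin m ⊕ Fin m) (Fin m ⊕ Fin m) F) *ᵥ v =
        Sum.elim (fun i => (a i : F) * v (.inl i))
          fun i => (((a i)⁻¹ * c : Fˣ) : F) * v (.inr i) := by
  let d : Fin m ⊕ Fin m → Fˣ := Sum.elim a fun i => (a i)⁻¹ * c
  set s : (Fin m ⊕ Fin m → F) ≃ₗ[F] (Fin m ⊕ Fin m → F) :=
    LinearEquiv.piCongrRight fun l => LinearEquiv.smulOfUnit (d l) with hs
  have hv : ∀ v, ((glEquiv.symm s : GL (Fin m ⊕ Fin m) F) : Matrix (Fin m ⊕ Fin m) (Fin m ⊕ Fin m) F) *ᵥ v =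
      Sum.elim (fun i => (a i : F) * v (.inl i))
        fun i => (((a i)⁻¹ * c : Fˣ) : F) * v (.inr i) := fun v => by
    rw [← glEquiv_apply, MulEquiv.apply_symm_apply]
    funext l; rcases l with i | i <;> rfl
  have hf : ∀ v, Cfsg.quadFormPlus m F (((glEquiv.symm s : GL (Fin m ⊕ Fin m) F) : Matrix (Fin m ⊕ Fin m) (Fin m ⊕ Fin m) F) *ᵥ v) =
      (c : F) * Cfsg.quadFormPlus m F v := fun v => by
    rw [hv, Cfsg.quadFormPlus, Cfsg.quadFormPlus, Finset.mul_sum]
    refine Finset.sum_congr rfl fun i _ => ?_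
    simp; field_simp
  exact ⟨⟨_, c, hf⟩, (DPlus (F := F) hm).mult_eq hf, hv⟩

section Torus

variable {m : ℕ} (hm : 4 ≤ m) (h2 : (2 : F) ≠ 0) {a : Fin m → Fˣ} {c : Fˣ}
  {T : GS (Cfsg.quadFormPlus m F)}
  (hT : ∀ v, (T.1 : Matrix (Fin m ⊕ Fin m) (Fin m ⊕ Fin m) F) *ᵥ v =
    Sum.elim (fun i => (a i : F) * v (.inl i))
      fun i => (((a i)⁻¹ * c : Fˣ) : F) * v (.inr i))

include hm h2 hT

theorem plusT_mem_rot (hc : (DPlus (F := F) hm).mult T = c) :
    T ∈ (DPlus (F := F) hm).rot (hkPlus m) := by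
  rw [OF.mem_rot, OF.chi_odd _ _ h2, hc]
  have hM : (T.1 : Matrix (Fin m ⊕ Fin m) (Fin m ⊕ Fin m) F) =
      Matrix.diagonal fun l => ((Sum.elim a (fun i => (a i)⁻¹ * c) l : Fˣ) : F) :=
    Matrix.ext_of_mulVec_single fun i => by
      rw [hT]; funext l; rw [Matrix.mulVec_diagonal]; rcases l with l | l <;> rfl
  rw [hM, Matrix.det_diagonal, Fintype.prod_sum_type, ← Finset.prod_mul_distrib]
  simp

theorem plusT_decomp {s : Fˣ} (hs : s * s = c) :
    T = (DPlus (F := F) hm).scal s * (DPlus (F := F) hm).iso (diagPlus m fun i => a i / s) := by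
  refine (DPlus (F := F) hm).ext_mulVec fun v => ?_
  rw [hT, Subgroup.coe_mul, Units.val_mul, ← Matrix.mulVec_mulVec, OF.iso_apply,
    OF.coe_scal_mulVec]
  funext l
  rcases l with i | i
  · simp [AutPOmega.diagPlus_apply_inl]; field_simp
  · simp [AutPOmega.diagPlus_apply_inr, ← hs]; field_simp

end Torus

section Norm

variable {F₀ : Type*} [Field F₀] [Finite F₀] {σ : F ≃+* F} {j : F₀ →+* F}

theorem exists_norm_eq (hσ : orderOf σ = 2) (hj : ∀ x, σ x = x ↔ x ∈ Set.range j) {ν : F₀}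
    (hν : ν ≠ 0) : ∃ w : Fˣ, (w : F) * σ w = j ν := by
  have hν0 : j ν ≠ 0 := (map_ne_zero j).2 hν
  obtain ⟨w, hw⟩ := AutPSL.exists_tnorm_eq hσ two_pos (c := Units.mk0 (j ν) hν0)
    (Units.ext ((hj _).2 ⟨ν, rfl⟩))
  refine ⟨w, ?_⟩
  have := congrArg Units.val hw
  rw [AutPSL.tnorm_succ, AutPSL.tnorm_succ, AutPSL.tnorm_zero, map_one, mul_one] at this
  exact this

/-- An element is a square exactly when its norm is one. -/
theorem isSquare_iff_norm (hσ : orderOf σ = 2) (h20 : (2 : F₀) ≠ 0)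
    (hj : ∀ x, σ x = x ↔ x ∈ Set.range j) {x : F} (hx : x ≠ 0) {c : F₀} (hc : x * σ x = j c) :
    IsSquare x ↔ IsSquare c := by
  have h2 : (2 : F) ≠ 0 := fun h => h20 (j.injective (by rw [map_ofNat, map_zero]; exact h))
  have hσ2 : ∀ y, σ (σ y) = y := fun y => by
    have : σ ^ 2 = 1 := by rw [← hσ]; exact pow_orderOf_eq_one σ
    exact (RingEquiv.congr_fun (pow_two σ).symm y).trans (RingEquiv.congr_fun this y)
  have hfwd : ∀ {x : F} {c : F₀}, x * σ x = j c → IsSquare x → IsSquare c := by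
    rintro x c hc ⟨y, rfl⟩
    obtain ⟨d, hd⟩ := (hj (y * σ y)).1 (by rw [map_mul, hσ2, mul_comm])
    exact ⟨d, j.injective (by rw [map_mul, hd, ← hc, map_mul]; ring)⟩
  refine ⟨hfwd hc, fun hsq => ?_⟩
  by_contra hns
  obtain ⟨ν, hν⟩ := exists_nonsq h20
  have hν0 : ν ≠ 0 := fun e => hν (e ▸ IsSquare.zero)
  obtain ⟨w, hw⟩ := exists_norm_eq hσ hj hν0
  have hwns : ¬ IsSquare (w : F) := fun h => hν (hfwd hw h)
  have h1 := hfwd (x := x * w) (c := ν * c) (by rw [map_mul, map_mul, ← hw, ← hc]; ring)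
    (isSquare_mul_of_not h2 hns hwns)
  have hc0 : c ≠ 0 := fun e => by
    rw [e, map_zero, mul_eq_zero] at hc
    exact hc.elim hx (fun h => hx ((map_eq_zero σ).1 h))
  exact hν ((isSquare_mul_iff hc0 hsq).1 h1)

/-- The square class of a square root of a fixed non-square. -/
theorem sqrt_facts (hσ : orderOf σ = 2) (h20 : (2 : F₀) ≠ 0)
    (hj : ∀ x, σ x = x ↔ x ∈ Set.range j) {ν : F₀} (hν : ¬ IsSquare ν) {q₀ : ℕ}
    (hq : Nat.card F₀ = q₀) {s : F} (hs : s * s = j ν) (m : ℕ) :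
    IsSquare (s ^ m) ↔ ¬ (Odd m ∧ q₀ % 4 = 1) := by
  have := Fintype.ofFinite F₀
  have hν0 : ν ≠ 0 := fun e => hν (e ▸ IsSquare.zero)
  have hs0 : s ≠ 0 := fun e => (map_ne_zero j).2 hν0 (by rw [← hs, e, mul_zero])
  have hσs : σ s = -s := by
    have h1 : σ s * σ s = s * s := by rw [← map_mul, hs, (hj _).2 ⟨ν, rfl⟩]
    refine (mul_self_eq_mul_self_iff.1 h1).resolve_left fun h => hν ?_
    obtain ⟨t, ht⟩ := (hj s).1 h
    exact ⟨t, j.injective (by rw [map_mul, ht, hs])⟩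
  have h1 : IsSquare s ↔ IsSquare (-ν) := by
    refine isSquare_iff_norm hσ h20 hj hs0 ?_
    rw [hσs, map_neg, ← hs]; ring
  have hodd : q₀ % 2 = 1 := by
    rw [← hq, Nat.card_eq_fintype_card]
    refine FiniteField.odd_card_of_char_ne_two fun e => h20 ?_
    have := ringChar.Nat.cast_ringChar (R := F₀)
    rw [e] at this; exact_mod_cast this
  have h3 : IsSquare (-ν) ↔ ¬ IsSquare (-1 : F₀) := by
    constructor
    · intro h hm1
      exact hν ((isSquare_mul_iff (neg_ne_zero.2 one_ne_zero) hm1).1 (by simpa using h))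
    · intro hm1
      simpa using isSquare_mul_of_not h20 hm1 hν
  rw [FiniteField.isSquare_neg_one_iff, ← Nat.card_eq_fintype_card, hq] at h3
  rcases Nat.even_or_odd m with ⟨t, rfl⟩ | hm
  · exact iff_of_true ⟨s ^ t, by rw [pow_add]⟩
      fun h => Nat.not_even_iff_odd.2 h.1 ⟨t, rfl⟩
  · obtain ⟨t, rfl⟩ := hm
    rw [pow_succ', isSquare_mul_iff (pow_ne_zero _ hs0) ⟨s ^ t, by rw [← pow_add]; ring_nf⟩, h1, h3]
    constructor
    · intro h h'; omega
    · intro h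
      intro h'
      exact h ⟨⟨t, rfl⟩, by omega⟩

end Norm

end Cfsg.Agent.Lib.OrthField
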