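import Cfsg.Agent.Lib.OrthField.EvenConj

/-!
Transport of the inner-diagonal automorphisms along an isometry of coordinate forms.
-/

set_option autoImplicit false

namespace Cfsg.Agent.Lib.OrthField

open Module QuadraticMap Cfsg.Agent.Lib.Forms Cfsg.Agent.Lib.OrthOmega
open scoped Matrix

variable {F : Type*} [Field F] {ι : Type} [Fintype ι] [DecidableEq ι]
  {f f' : (ι → F) → F} (M : GL ι F) (hM : ∀ v, f' ((M : Matrix ι ι F) *ᵥ v) = f v)

include hM in
theorem conj_mem_iff (g : GL ι F) :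
    MulAut.conj M g ∈ Cfsg.isometryGroup F f' ↔ g ∈ Cfsg.isometryGroup F f := by
  have key : ∀ u : ι → F, f' (((MulAut.conj M g : GL ι F) : Matrix ι ι F) *ᵥ
      ((M : Matrix ι ι F) *ᵥ u)) = f ((g : Matrix ι ι F) *ᵥ u) := fun u => by
    rw [Matrix.mulVec_mulVec, ← Units.val_mul, MulAut.conj_apply, inv_mul_cancel_right,
      Units.val_mul, ← Matrix.mulVec_mulVec, hM]
  constructor
  · intro h u v
    show f ((g : Matrix ι ι F) *ᵥ u) = f u
    rw [← key, ← hM u]
    exact h _ ((M : Matrix ι ι F) *ᵥ v)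
  · intro h u v
    show f' (((MulAut.conj M g : GL ι F) : Matrix ι ι F) *ᵥ u) = f' u
    obtain ⟨w, rfl⟩ : ∃ w, (M : Matrix ι ι F) *ᵥ w = u :=
      ⟨((M⁻¹ : GL ι F) : Matrix ι ι F) *ᵥ u, by rw [Matrix.mulVec_mulVec]; simp⟩
    rw [key, hM]
    exact h w v

/-- Conjugation of the isometry groups. -/
noncomputable def isoCongr : Cfsg.isometryGroup F f ≃* Cfsg.isometryGroup F f' :=
  ((MulAut.conj M).subgroupMap (Cfsg.isometryGroup F f)).trans (MulEquiv.subgroupCongr (by
    ext x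
    rw [← (MulAut.conj M).apply_symm_apply x]
    constructor
    · rintro ⟨g, hg, he⟩
      rw [← he]; exact (conj_mem_iff M hM g).2 hg
    · intro h
      exact ⟨_, (conj_mem_iff M hM _).1 h, rfl⟩))

theorem coe_isoCongr (g : Cfsg.isometryGroup F f) :
    (isoCongr M hM g : GL ι F) = M * g * M⁻¹ := rfl

/-- Conjugation of `Omega`. -/
noncomputable def omegaCongr : Cfsg.Omega F f ≃* Cfsg.Omega F f' :=
  ((isoCongr M hM).subgroupMap (Cfsg.Omega F f)).trans
    (MulEquiv.subgroupCongr (map_commutator_equiv (isoCongr M hM)))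

/-- Conjugation of `POmega`. -/
noncomputable def pomegaCongr : Cfsg.POmega F f ≃* Cfsg.POmega F f' :=
  QuotientGroup.congr _ _ (omegaCongr M hM) (map_center_mulEquiv _)

theorem pomegaCongr_mk (s : Cfsg.Omega F f) :
    pomegaCongr M hM (QuotientGroup.mk s) = QuotientGroup.mk (omegaCongr M hM s) := rfl

theorem coe_omegaCongr (s : Cfsg.Omega F f) :
    ((omegaCongr M hM s : Cfsg.isometryGroup F f') : GL ι F) =
      M * ((s : Cfsg.isometryGroup F f) : GL ι F) * M⁻¹ := rfl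

variable [Finite F] (D : OF f) (D' : OF f')

include hM D in
theorem conjGS_mem (g : GS f) : M * g.1 * M⁻¹ ∈ GS f' := ⟨D.mult g, fun v => by
  obtain ⟨w, rfl⟩ : ∃ w, (M : Matrix ι ι F) *ᵥ w = v :=
    ⟨((M⁻¹ : GL ι F) : Matrix ι ι F) *ᵥ v, by rw [Matrix.mulVec_mulVec]; simp⟩
  rw [Matrix.mulVec_mulVec, ← Units.val_mul, inv_mul_cancel_right, Units.val_mul,
    ← Matrix.mulVec_mulVec, hM, hM, D.mult_spec]⟩

theorem congr_conjQ (g : GS f) :
    MulAut.congr (pomegaCongr M hM) (D.conjQ g) = D'.conjQ ⟨_, conjGS_mem M hM D g⟩ := by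
  refine (D'.induced_iff' _ _).1 fun s s' hss => ?_
  obtain ⟨t, rfl⟩ := (omegaCongr M hM).surjective s
  obtain ⟨t', rfl⟩ := (omegaCongr M hM).surjective s'
  have h := (D.induced_iff' g (D.conjQ g)).2 rfl t t' (by
    show ((((t' : Cfsg.isometryGroup F f) : GL ι F)) : Matrix ι ι F) = _
    rw [show (⇑(RingEquiv.refl F) : F → F) = id from rfl, Matrix.map_id] at hss ⊢
    simp only [coe_omegaCongr, ← Units.val_mul] at hss ⊢
    have h1 := Units.ext hss
    refine congrArg Units.val (mul_left_cancel (a := M) (mul_right_cancel (b := M⁻¹) ?_))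
    rw [h1]; group)
  show pomegaCongr M hM (D.conjQ g ((pomegaCongr M hM).symm (QuotientGroup.mk (omegaCongr M hM t)))) = _
  rw [← pomegaCongr_mk, MulEquiv.symm_apply_apply, h, pomegaCongr_mk]

/-- The structure given by `M`. -/
noncomputable def transRat : Rat (1 : GS f') (1 : F ≃+* F) (RingHom.id F) f where
  h := glEquiv M
  w := 1
  hw := one_ne_zero
  fix' u := by
    show ((1 : GL ι F) : Matrix ι ι F) *ᵥ (fun i => glEquiv M u i) = _
    rw [Units.val_one, Matrix.one_mulVec]; rfl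
  val v := by
    show f' (glEquiv M (⇑(RingHom.id F) ∘ v)) = 1 * f v
    rw [glEquiv_apply, one_mul]; exact hM v

theorem emb_transRat (g : GS f) :
    emb D' D (transRat M hM) g = ⟨_, conjGS_mem M hM D g⟩ := by
  refine GS.ext_mulVec (transRat M hM).h fun u => ?_
  rw [emb_apply]
  show glEquiv M ((g.1 : Matrix ι ι F).map id *ᵥ u) = _ *ᵥ glEquiv M u
  rw [Matrix.map_id, glEquiv_apply, glEquiv_apply, Matrix.mulVec_mulVec, Matrix.mulVec_mulVec,
    ← Units.val_mul, ← Units.val_mul, inv_mul_cancel_right]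

theorem congr_rot {k : ℕ} (hk : Fintype.card ι = 2 * k) :
    ((D.rot hk).map D.conjQ).map (MulAut.congr (pomegaCongr M hM)).toMonoidHom =
      (D'.rot hk).map D'.conjQ := by
  ext x
  constructor
  · rintro ⟨_, ⟨g, hg, rfl⟩, rfl⟩
    refine ⟨_, ?_, (congr_conjQ M hM D D' g).symm⟩
    rw [← emb_transRat M hM D D' g]
    exact (emb_mem_rot_iff D' D _ hk hk g).2 hg
  · rintro ⟨g', hg', rfl⟩
    have hM' : ∀ v, f (((M⁻¹ : GL ι F) : Matrix ι ι F) *ᵥ v) = f' v := fun v => by
      rw [← hM, Matrix.mulVec_mulVec]; simp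
    set g : GS f := ⟨_, conjGS_mem M⁻¹ hM' D' g'⟩
    have he : (⟨_, conjGS_mem M hM D g⟩ : GS f') = g' := Subtype.ext (by
      show M * (M⁻¹ * g'.1 * M⁻¹⁻¹) * M⁻¹ = _
      group)
    refine ⟨_, ⟨g, ?_, rfl⟩, (congr_conjQ M hM D D' g).trans (congrArg _ he)⟩
    show g ∈ D.rot hk
    rw [← emb_mem_rot_iff D' D (transRat M hM) hk hk, emb_transRat, he]
    exact hg'

end Cfsg.Agent.Lib.OrthField
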